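import Groth.Agent.FlatMorSlice.Regular
import Groth.Agent.CAlgH3.Parameters
import Mathlib.RingTheory.ZariskisMainTheorem
import Mathlib.RingTheory.Ideal.KrullsHeightTheorem

/-!
# Quasi-finite slices at Cohen–Macaulay points (affine form)
-/

universe u

set_option autoImplicit false
set_option backward.isDefEq.respectTransparency false

open Function

namespace Groth.Agent.FlatMorSlice

variable {A B : Type u} [CommRing A] [CommRing B] [Algebra A B]

/-- A presentation `ψ` of the local ring at `q` of the fibre. -/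
structure FibPres (A : Type u) [CommRing A] {B R : Type u} [CommRing B] [Algebra A B] [CommRing R]
    (q : Ideal B) (ψ : B →+* R) : Prop where
  unit : ∀ c, c ∉ q → IsUnit (ψ c)
  surj : ∀ r : R, ∃ b c, c ∉ q ∧ r * ψ c = ψ b
  ker : ∀ b, ψ b = 0 → ∃ c ∉ q, c * b ∈ (q.comap (algebraMap A B)).map (algebraMap A B)
  le_ker : (q.comap (algebraMap A B)).map (algebraMap A B) ≤ RingHom.ker ψ

variable {R : Type u} [CommRing R] {q : Ideal B} {ψ : B →+* R}

theorem FibPres.mem_map_iff [q.IsPrime] (h : FibPres A q ψ) (J : Ideal B) (b : B) :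
    ψ b ∈ J.map ψ ↔
      ∃ c ∉ q, c * b ∈ (q.comap (algebraMap A B)).map (algebraMap A B) ⊔ J := by
  constructor
  · intro hb
    suffices ∀ x ∈ J.map ψ, ∀ b', x = ψ b' →
        ∃ c ∉ q, c * b' ∈ (q.comap (algebraMap A B)).map (algebraMap A B) ⊔ J from this _ hb b rfl
    intro x hx
    have : ∃ c j, c ∉ q ∧ j ∈ J ∧ x * ψ c = ψ j := by
      induction hx using Submodule.span_induction with
      | mem x hx =>
        obtain ⟨j, hj, rfl⟩ := hx
        exact ⟨1, j, q.primeCompl.one_mem, hj, by rw [map_one, mul_one]⟩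
      | zero => exact ⟨1, 0, q.primeCompl.one_mem, J.zero_mem, by simp⟩
      | add x y _ _ hx hy =>
        obtain ⟨c, j, hc, hj, hcj⟩ := hx
        obtain ⟨c', j', hc', hj', hcj'⟩ := hy
        refine ⟨c * c', j * c' + j' * c, q.primeCompl.mul_mem hc hc',
          J.add_mem (J.mul_mem_right _ hj) (J.mul_mem_right _ hj'), ?_⟩
        simp only [map_add, map_mul, ← hcj, ← hcj']
        ring
      | smul r x _ hx =>
        obtain ⟨c, j, hc, hj, hcj⟩ := hx
        obtain ⟨b₁, c₁, hc₁, hb₁⟩ := h.surj r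
        refine ⟨c * c₁, b₁ * j, q.primeCompl.mul_mem hc hc₁, J.mul_mem_left _ hj, ?_⟩
        simp only [map_mul, ← hcj, ← hb₁, smul_eq_mul]
        ring
    obtain ⟨c, j, hc, hj, hcj⟩ := this
    intro b' hb'
    obtain ⟨d, hd, hdm⟩ := h.ker (c * b' - j) (by rw [map_sub, map_mul, ← hcj, hb', mul_comm, sub_self])
    refine ⟨d * c, q.primeCompl.mul_mem hd hc, ?_⟩
    have : d * c * b' = d * (c * b' - j) + d * j := by ring
    rw [this]
    exact add_mem (Ideal.mem_sup_left hdm) (Ideal.mem_sup_right (J.mul_mem_left _ hj))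
  · rintro ⟨c, hc, hcb⟩
    have hle : ((q.comap (algebraMap A B)).map (algebraMap A B) ⊔ J).map ψ ≤ J.map ψ := by
      rw [Ideal.map_sup]
      refine sup_le (Ideal.map_le_iff_le_comap.2 fun x hx => ?_) le_rfl
      rw [Ideal.mem_comap, RingHom.mem_ker.1 (h.le_ker hx)]
      exact zero_mem _
    have := hle (Ideal.mem_map_of_mem ψ hcb)
    rwa [map_mul, Ideal.unit_mul_mem_iff_mem _ (h.unit c hc)] at this

theorem FibPres.mem_of_mem_maximalIdeal [IsLocalRing R] (h : FibPres A q ψ) {b : B}
    (hb : ψ b ∈ IsLocalRing.maximalIdeal R) : b ∈ q :=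
  by_contra fun hbq => hb (h.unit b hbq)

/-- Lifts of a system of parameters of a Cohen–Macaulay fibre ring. -/
theorem exists_fibReg_of_cm [LocCoh.IsCohenMacaulayLocalRing R] [q.IsPrime] (h : FibPres A q ψ) :
    ∃ rs : List B, (∀ f ∈ rs, f ∈ q) ∧ FibReg A q rs ∧
      ∀ r : Ideal B, r.IsPrime → r ≤ q → Ideal.ofList rs ≤ r →
        (q.comap (algebraMap A B)).map (algebraMap A B) ≤ r → r = q := by
  classical
  obtain ⟨s, hs, hcard⟩ := Ideal.exists_finset_card_eq_height_of_isNoetherianRing (IsLocalRing.maximalIdeal R)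
  choose β γ hγ hβ using fun x : (s : Finset R) => h.surj x.1
  let n := Fintype.card (s : Finset R)
  let e : Fin n ≃ (s : Finset R) := (Fintype.equivFin _).symm
  let g : Fin n → R := fun i => ψ (β (e i))
  have hspan : Ideal.span (Set.range g) = Ideal.span (s : Set R) := by
    refine le_antisymm (Ideal.span_le.2 ?_) (Ideal.span_le.2 fun x hx => ?_)
    · rintro _ ⟨i, rfl⟩
      show ψ (β (e i)) ∈ _
      rw [← hβ]
      exact Ideal.mul_mem_right _ _ (Ideal.subset_span (e i).2)
    · have := (Ideal.unit_mul_mem_iff_mem (I := Ideal.span (Set.range g)) (y := ψ (γ ⟨x, hx⟩)) (x := x)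
        (h.unit _ (hγ _))).1 ?_
      · exact this
      · rw [mul_comm, hβ ⟨x, hx⟩]
        exact Ideal.subset_span ⟨e.symm ⟨x, hx⟩, by simp [g]⟩
  have hgm : ∀ i, g i ∈ IsLocalRing.maximalIdeal R := fun i =>
    hs.1.2 (hspan ▸ Ideal.subset_span ⟨i, rfl⟩)
  have hn : ringKrullDim R = Fintype.card (Fin n) := by
    rw [← IsLocalRing.maximalIdeal_height_eq_ringKrullDim, ← hcard, Fintype.card_fin,
      show n = s.card from Fintype.card_coe s]
    rfl
  have hm : ∀ J : Ideal R, J.IsPrime → Ideal.span (Set.range g) ≤ J → J = IsLocalRing.maximalIdeal R :=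
    fun J hJ hle => le_antisymm (IsLocalRing.le_maximalIdeal hJ.ne_top)
      (hs.2 ⟨hJ, hspan ▸ hle⟩ (IsLocalRing.le_maximalIdeal hJ.ne_top))
  have hdim : ringKrullDim (R ⧸ Ideal.span (Set.range g)) = 0 := by
    have : Nontrivial (R ⧸ Ideal.span (Set.range g)) := Ideal.Quotient.nontrivial_iff.2 fun hh =>
      (IsLocalRing.maximalIdeal.isMaximal R).ne_top (top_le_iff.1 (hh ▸ hspan ▸ hs.1.2))
    have : Ring.KrullDimLE 0 (R ⧸ Ideal.span (Set.range g)) := Ring.krullDimLE_zero_iff.2 fun J hJ => by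
      have := hm (J.comap (Ideal.Quotient.mk _)) inferInstance (fun x hx => by
        rw [Ideal.mem_comap, Ideal.Quotient.eq_zero_iff_mem.2 hx]; exact J.zero_mem)
      rw [← Ideal.map_comap_of_surjective _ Ideal.Quotient.mk_surjective J, this]
      exact (Ideal.map_eq_top_or_isMaximal_of_surjective _ Ideal.Quotient.mk_surjective
        inferInstance).resolve_left fun h' => hJ.ne_top (by
          rw [← Ideal.map_comap_of_surjective _ Ideal.Quotient.mk_surjective J, this, h'])
    exact ringKrullDimZero_iff_ringKrullDim_eq_zero.1 inferInstance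
  refine ⟨List.ofFn fun i => β (e i), fun f hf => ?_, fun i hi x hx => ?_, fun r hr hrq hJr hpr => ?_⟩
  · obtain ⟨i, rfl⟩ := List.mem_ofFn.1 hf
    exact h.mem_of_mem_maximalIdeal (hgm i)
  · have hi' : i < n := by simpa using hi
    let t : Finset (Fin n) := Finset.univ.filter (fun j => (j : ℕ) < i)
    have hmap : (Ideal.ofList ((List.ofFn fun i => β (e i)).take i)).map ψ =
        Ideal.span (g '' (t : Set (Fin n))) := by
      rw [Ideal.map_ofList]
      refine congrArg Ideal.span (Set.ext fun y => ?_)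
      simp only [Set.mem_ofPred_eq, List.mem_map, List.mem_take_iff_getElem, List.getElem_ofFn,
        List.length_ofFn, Set.mem_image, Finset.mem_coe, t, Finset.mem_filter, Finset.mem_univ, true_and]
      constructor
      · rintro ⟨_, ⟨j, hj, rfl⟩, rfl⟩
        exact ⟨⟨j, by omega⟩, by simp; omega, rfl⟩
      · rintro ⟨⟨j, hj⟩, hji, rfl⟩
        exact ⟨_, ⟨j, by simp at hji; omega, rfl⟩, rfl⟩
    have hreg := CAlgH3.isSMulRegular_of_isSystemOfParameters g hgm hn hdim t ⟨i, hi'⟩ (by simp [t])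
    rw [← h.mem_map_iff, map_mul, hmap, List.getElem_ofFn] at hx
    rw [← h.mem_map_iff, hmap, ← Ideal.Quotient.eq_zero_iff_mem]
    refine hreg ?_
    simp only [Algebra.smul_def, Ideal.Quotient.algebraMap_eq, mul_zero]
    rw [← map_mul]
    exact Ideal.Quotient.eq_zero_iff_mem.2 hx
  · refine le_antisymm hrq fun b hb => ?_
    have hbm : ψ b ∈ IsLocalRing.maximalIdeal R := fun hu => by
      obtain ⟨u, hu⟩ := hu
      obtain ⟨b₁, c₁, hc₁, hb₁⟩ := h.surj (↑u⁻¹ : R)
      have h0 : ψ (b * b₁ - c₁) = 0 := by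
        rw [map_sub, map_mul, ← hb₁, ← hu, Units.mul_inv_cancel_left, sub_self]
      obtain ⟨d, hd, hdm⟩ := h.ker _ h0
      have : b * b₁ - c₁ ∈ q := (Ideal.IsPrime.mem_or_mem inferInstance
        (Ideal.map_comap_le hdm : d * (b * b₁ - c₁) ∈ q)).resolve_left hd
      exact hc₁ (by simpa using q.sub_mem (q.mul_mem_right b₁ hb) this)
    have hrad : IsLocalRing.maximalIdeal R ≤ (Ideal.span (Set.range g)).radical := by
      rw [Ideal.radical_eq_sInf]
      exact le_sInf fun J hJ => (hm J hJ.2 hJ.1).ge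
    obtain ⟨N, hN⟩ := hrad hbm
    rw [← map_pow] at hN
    have hJ : Ideal.span (Set.range g) = (Ideal.ofList (List.ofFn fun i => β (e i))).map ψ := by
      rw [Ideal.map_ofList]
      refine congrArg Ideal.span (Set.ext fun y => ?_)
      simp only [Set.mem_range, Set.mem_ofPred_eq, List.map_ofFn, List.mem_ofFn, Function.comp_apply, g]
    rw [hJ, h.mem_map_iff] at hN
    obtain ⟨c, hc, hcb⟩ := hN
    exact hr.mem_of_pow_mem N ((hr.mem_or_mem (sup_le hpr hJr hcb)).resolve_left fun hcr => hc (hrq hcr))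

/-- Consequences on a basic open: weakly regular, flat quotient. -/
theorem isWeaklyRegular_and_flat_away (rs : List B) {c : B}
    (h₁ : ∀ (i : ℕ) (hi : i < rs.length) (x : B), rs[i] * x ∈ Ideal.ofList (rs.take i) →
      ∃ k : ℕ, c ^ k * x ∈ Ideal.ofList (rs.take i))
    (h₂ : ∀ (r : Ideal B) [r.IsPrime], c ∉ r →
      Module.Flat A (LocalizedModule r.primeCompl (B ⧸ Ideal.ofList rs)))
    {d : B} (hcd : c ∣ d) (L : Type u) [CommRing L] [Algebra A L] [Algebra B L] [IsScalarTower A B L]
    [IsLocalization.Away d L] :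
    RingTheory.Sequence.IsWeaklyRegular L (rs.map (algebraMap B L)) ∧
      Module.Flat A (L ⧸ (Ideal.ofList rs).map (algebraMap B L)) := by
  have hcu : IsUnit (algebraMap B L c) :=
    isUnit_of_dvd_unit (map_dvd _ hcd) (IsLocalization.Away.algebraMap_isUnit d)
  refine ⟨⟨fun i hi => ?_⟩, ?_⟩
  · have hi' : i < rs.length := by simpa using hi
    rw [isSMulRegular_quotient_iff_mem_of_smul_mem]
    intro x hx
    simp only [List.getElem_map, ← List.map_take, ← Ideal.map_ofList, smul_eq_mul, Ideal.mul_top] at hx ⊢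
    obtain ⟨⟨b, t⟩, hb⟩ := IsLocalization.surj (Submonoid.powers d) x
    have hx' : algebraMap B L (rs[i] * b) ∈ (Ideal.ofList (rs.take i)).map (algebraMap B L) := by
      rw [map_mul, ← hb, ← mul_assoc]
      exact Ideal.mul_mem_right _ _ hx
    rw [IsLocalization.algebraMap_mem_map_algebraMap_iff (Submonoid.powers d)] at hx'
    obtain ⟨m, hm, hmx⟩ := hx'
    obtain ⟨k, hk⟩ := h₁ i hi' (m * b) (by rw [mul_left_comm]; exact hmx)
    have hu : IsUnit (algebraMap B L (c ^ k * m)) := by
      rw [map_mul, map_pow]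
      exact (hcu.pow k).mul (IsLocalization.map_units L ⟨m, hm⟩)
    have := Ideal.mem_map_of_mem (algebraMap B L) hk
    rw [← mul_assoc, map_mul, Ideal.unit_mul_mem_iff_mem _ hu, ← hb] at this
    exact (Ideal.mul_unit_mem_iff_mem _ (IsLocalization.map_units L t)).1 this
  · let I := Ideal.ofList rs
    let π : B ⧸ I →+* L ⧸ I.map (algebraMap B L) :=
      Ideal.quotientMap (I.map (algebraMap B L)) (algebraMap B L) Ideal.le_comap_map
    have := flat_away_of_forall (A := A) (Q := B ⧸ I) d fun r _ hr =>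
      h₂ r fun hcr => hr (Ideal.mem_of_dvd _ hcd hcr)
    let g : (B ⧸ I) →ₗ[B] L ⧸ I.map (algebraMap B L) :=
      { toFun := π
        map_add' := map_add π
        map_smul' := fun b y => by
          obtain ⟨y, rfl⟩ := Ideal.Quotient.mk_surjective y
          show Ideal.Quotient.mk _ (algebraMap B L (b * y)) = b • Ideal.Quotient.mk _ (algebraMap B L y)
          rw [map_mul, Algebra.smul_def, IsScalarTower.algebraMap_apply B L (L ⧸ _),
            Ideal.Quotient.algebraMap_eq, map_mul] }
    have : IsLocalizedModule (Submonoid.powers d) g := by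
      refine { map_units := fun t => ?_, surj := fun y => ?_, exists_of_eq := fun {a b} e => ?_ }
      · obtain ⟨u, hu⟩ := ((IsLocalization.map_units L t).map (Ideal.Quotient.mk (I.map (algebraMap B L))))
        refine (Module.End.isUnit_iff _).2 ?_
        have key : ∀ y : L ⧸ I.map (algebraMap B L), t.1 • y = u * y := fun y => by
          rw [Algebra.smul_def, hu, IsScalarTower.algebraMap_apply B L (L ⧸ _), Ideal.Quotient.algebraMap_eq]
        refine ⟨fun a b hab => u.mul_right_inj.1 ((key a).symm.trans (hab.trans (key b))),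
          fun y => ⟨↑u⁻¹ * y, (key _).trans (Units.mul_inv_cancel_left u y)⟩⟩
      · obtain ⟨l, rfl⟩ := Ideal.Quotient.mk_surjective y
        obtain ⟨⟨b, t⟩, hb⟩ := IsLocalization.surj (Submonoid.powers d) l
        refine ⟨⟨Ideal.Quotient.mk I b, t⟩, ?_⟩
        show t.1 • Ideal.Quotient.mk (I.map (algebraMap B L)) l =
          Ideal.Quotient.mk (I.map (algebraMap B L)) (algebraMap B L b)
        rw [← hb, mul_comm, ← Algebra.smul_def]
        rfl
      · obtain ⟨a, rfl⟩ := Ideal.Quotient.mk_surjective a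
        obtain ⟨b, rfl⟩ := Ideal.Quotient.mk_surjective b
        have e' : algebraMap B L (a - b) ∈ I.map (algebraMap B L) := by
          rw [map_sub]; exact Ideal.Quotient.eq.1 e
        rw [IsLocalization.algebraMap_mem_map_algebraMap_iff (Submonoid.powers d)] at e'
        obtain ⟨m, hm, hmx⟩ := e'
        refine ⟨⟨m, hm⟩, ?_⟩
        show Ideal.Quotient.mk I (m * a) = Ideal.Quotient.mk I (m * b)
        rw [Ideal.Quotient.eq, ← mul_sub]
        exact hmx
    exact Module.Flat.of_linearEquiv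
      ((IsLocalizedModule.iso (Submonoid.powers d) g).restrictScalars A).symm

/-- A prime which is alone in its fibre among the primes below it and above it is quasi-finite. -/
theorem quasiFiniteAt_of_isolated [Algebra.FiniteType A B] (q : Ideal B) [q.IsPrime]
    (hmax : ∀ r : Ideal B, r.IsPrime → q ≤ r → r.comap (algebraMap A B) = q.comap (algebraMap A B) → r = q)
    (hmin : ∀ r : Ideal B, r.IsPrime → r ≤ q → r.comap (algebraMap A B) = q.comap (algebraMap A B) → r = q) :
    Algebra.QuasiFiniteAt A q := by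
  classical
  let p := q.comap (algebraMap A B)
  have : q.LiesOver p := ⟨rfl⟩
  let e := PrimeSpectrum.primesOverOrderIsoFiber A B p
  let Q : PrimeSpectrum (p.Fiber B) := e ⟨q, inferInstance, inferInstance⟩
  have hrig : ∀ Z : PrimeSpectrum (p.Fiber B), Z ≤ Q ∨ Q ≤ Z → Z = Q := fun Z hZ => by
    obtain ⟨r, rfl⟩ := e.surjective Z
    rw [e.le_iff_le, e.le_iff_le] at hZ
    refine congrArg e (Subtype.ext ?_)
    rcases hZ with hle | hle
    · exact hmin r.1 r.2.1 hle r.2.2.over.symm
    · exact hmax r.1 r.2.1 hle r.2.2.over.symm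
  have : IsNoetherianRing (p.Fiber B) := Algebra.FiniteType.isNoetherianRing p.ResidueField _
  have hfin := minimalPrimes.finite_of_isNoetherianRing (p.Fiber B)
  have hx : ∀ P ∈ hfin.toFinset.erase Q.asIdeal, ∃ x ∈ P, x ∉ Q.asIdeal := fun P hP => by
    obtain ⟨hne, hP⟩ := Finset.mem_erase.1 hP
    rw [Set.Finite.mem_toFinset] at hP
    refine SetLike.not_le_iff_exists.1 fun hle => hne ?_
    exact congrArg PrimeSpectrum.asIdeal (hrig ⟨P, hP.isPrime⟩ (.inl hle))
  choose! x hxP hxQ using hx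
  let t := ∏ P ∈ hfin.toFinset.erase Q.asIdeal, x P
  have hopen : IsOpen ({Q} : Set (PrimeSpectrum (p.Fiber B))) := by
    have : ({Q} : Set _) = PrimeSpectrum.basicOpen t := Set.ext fun Z => by
      rw [Set.mem_singleton_iff, SetLike.mem_coe, PrimeSpectrum.mem_basicOpen]
      constructor
      · rintro rfl ht
        obtain ⟨P, hP, hPt⟩ := Ideal.IsPrime.prod_mem_iff.1 ht
        exact hxQ P hP hPt
      · intro ht
        obtain ⟨P, hP, hPZ⟩ := Ideal.exists_minimalPrimes_le (I := (⊥ : Ideal (p.Fiber B))) (J := Z.asIdeal) bot_le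
        have hPQ : P = Q.asIdeal := by
          by_contra hne
          have hmem : P ∈ hfin.toFinset.erase Q.asIdeal := Finset.mem_erase.2 ⟨hne, hfin.mem_toFinset.2 hP⟩
          exact ht (Z.asIdeal.mem_of_dvd (Finset.dvd_prod_of_mem x hmem) (hPZ (hxP P hmem)))
        exact hrig Z (.inr (show Q.asIdeal ≤ Z.asIdeal from hPQ ▸ hPZ))
    rw [this]
    exact (PrimeSpectrum.basicOpen t).isOpen
  have := Algebra.QuasiFiniteAt.of_isOpen_singleton (R := p.ResidueField) Q hopen
  refine Algebra.QuasiFiniteAt.of_quasiFiniteAt_residueField p q Q.asIdeal ?_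
  have h := PrimeSpectrum.coe_primesOverOrderIsoFiber_symm_apply (S := B) p Q
  rw [show e.symm Q = ⟨q, inferInstance, inferInstance⟩ from e.symm_apply_apply _] at h
  exact h.symm

/-- **EGA IV 17.16.1**, affine form: the slice through a Cohen–Macaulay point closed in its fibre. -/
theorem exists_cm_slice [Algebra.FinitePresentation A B] [LocCoh.IsCohenMacaulayLocalRing R]
    [q.IsPrime] (hq : Module.Flat A (LocalizedModule q.primeCompl B)) (h : FibPres A q ψ)
    (hmax : ∀ r : Ideal B, r.IsPrime → q ≤ r → r.comap (algebraMap A B) = q.comap (algebraMap A B) → r = q) :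
    ∃ d ∉ q, ∃ rs : List B, (∀ f ∈ rs, f ∈ q) ∧
      (∀ (L : Type u) [CommRing L] [Algebra A L] [Algebra B L] [IsScalarTower A B L]
        [IsLocalization.Away d L],
        RingTheory.Sequence.IsWeaklyRegular L (rs.map (algebraMap B L)) ∧
        Algebra.FinitePresentation A (L ⧸ (Ideal.ofList rs).map (algebraMap B L)) ∧
        Module.Flat A (L ⧸ (Ideal.ofList rs).map (algebraMap B L)) ∧
        Algebra.QuasiFinite A (L ⧸ (Ideal.ofList rs).map (algebraMap B L))) ∧
      ∀ r : Ideal B, r.IsPrime → Ideal.ofList rs ≤ r → d ∉ r →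
        r.comap (algebraMap A B) = q.comap (algebraMap A B) → r = q := by
  classical
  obtain ⟨rs, hrs, hreg, hmin⟩ := exists_fibReg_of_cm h
  obtain ⟨c, hc, h₁, h₂⟩ := exists_regular_sequence ⟨q, inferInstance⟩ hq rs hreg
  let I := Ideal.ofList rs
  have hIq : I ≤ q := Ideal.span_le.2 hrs
  let π := Ideal.Quotient.mk I
  let q' : Ideal (B ⧸ I) := q.map π
  have : q'.IsPrime := Ideal.map_isPrime_of_surjective Ideal.Quotient.mk_surjective (by rwa [Ideal.mk_ker])
  have hq' : q'.comap π = q := by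
    rw [Ideal.comap_map_of_surjective _ Ideal.Quotient.mk_surjective, ← RingHom.ker_eq_comap_bot,
      Ideal.mk_ker, sup_eq_left.2 hIq]
  have hover : ∀ r : Ideal (B ⧸ I), r.comap (algebraMap A (B ⧸ I)) = (r.comap π).comap (algebraMap A B) :=
    fun r => by rw [Ideal.comap_comap]; rfl
  have hcase : ∀ r : Ideal (B ⧸ I), r.comap π = q → r = q' := fun r hr => by
    rw [← Ideal.map_comap_of_surjective _ Ideal.Quotient.mk_surjective r, hr]
  have hI : ∀ r : Ideal (B ⧸ I), I ≤ r.comap π := fun r x hx => by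
    rw [Ideal.mem_comap, Ideal.Quotient.eq_zero_iff_mem.2 hx]; exact r.zero_mem
  have : Algebra.FinitePresentation A (B ⧸ I) := Algebra.FinitePresentation.quotient
    ⟨rs.toFinset, by rw [List.coe_toFinset]⟩
  have : Algebra.QuasiFiniteAt A q' := quasiFiniteAt_of_isolated q'
    (fun r _ hle he => hcase r (hmax _ inferInstance (hq' ▸ Ideal.comap_mono hle) (by
      rw [← hover, he, hover, hq'])))
    (fun r _ hle he => hcase r (hmin _ inferInstance (hq' ▸ Ideal.comap_mono hle) (hI r) (by
      rw [Ideal.map_le_iff_le_comap, ← hover, he, hover, hq'])))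
  have : q'.LiesOver (q.comap (algebraMap A B)) := ⟨by rw [Ideal.under_def, hover, hq']⟩
  obtain ⟨s, hs, hsu⟩ := Ideal.exists_not_mem_forall_mem_of_ne_of_liesOver (R := A)
    (q.comap (algebraMap A B)) q'
  obtain ⟨S', hS', ρ, hρq, hbij⟩ :=
    Algebra.QuasiFiniteAt.exists_fg_and_exists_notMem_and_awayMap_bijective (R := A) q'
  have : Module.Finite A S' := ⟨(Submodule.fg_top _).mpr hS'⟩
  have : Algebra.QuasiFinite A (Localization.Away ρ) := .trans _ S' _
  have hQF : Algebra.QuasiFinite A (Localization.Away ρ.1) :=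
    .of_surjective_algHom (Localization.awayMapₐ S'.val ρ) hbij.2
  obtain ⟨ρ₀, hρ₀⟩ := Ideal.Quotient.mk_surjective ρ.1
  obtain ⟨s₀, hs₀⟩ := Ideal.Quotient.mk_surjective s
  have hρ₀q : ρ₀ ∉ q := fun h' => hρq (hρ₀ ▸ Ideal.mem_map_of_mem π h')
  have hs₀q : s₀ ∉ q := fun h' => hs (hs₀ ▸ Ideal.mem_map_of_mem π h')
  refine ⟨c * ρ₀ * s₀, q.primeCompl.mul_mem (q.primeCompl.mul_mem hc hρ₀q) hs₀q, rs, hrs,
    fun L _ _ _ _ _ => ?_, fun r hr hIr hdr he => ?_⟩
  swap
  · have hr' : (r.map π).comap π = r := by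
      rw [Ideal.comap_map_of_surjective _ Ideal.Quotient.mk_surjective, ← RingHom.ker_eq_comap_bot,
        Ideal.mk_ker, sup_eq_left.2 hIr]
    have : (r.map π).IsPrime :=
      Ideal.map_isPrime_of_surjective Ideal.Quotient.mk_surjective (by rwa [Ideal.mk_ker])
    by_contra hne
    refine hdr (r.mul_mem_left _ ?_)
    rw [← hr', Ideal.mem_comap, hs₀]
    exact hsu _ inferInstance (fun heq => hne (by rw [← hr', heq, hq'])) ⟨by
      rw [Ideal.under_def, hover, hr', he]⟩
  obtain ⟨hw, hflat⟩ := isWeaklyRegular_and_flat_away (A := A) rs h₁ h₂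
    (d := c * ρ₀ * s₀) ((dvd_mul_right c ρ₀).trans (dvd_mul_right _ s₀)) L
  refine ⟨hw, ?_, hflat, ?_⟩
  · have := IsLocalization.Away.finitePresentation (c * ρ₀ * s₀) (S := L)
    have : Algebra.FinitePresentation A L := .trans A B L
    exact Algebra.FinitePresentation.quotient ((show I.FG from
      ⟨rs.toFinset, by rw [List.coe_toFinset]⟩).map (algebraMap B L))
  · let M := L ⧸ I.map (algebraMap B L)
    let φ : B ⧸ I →ₐ[A] M := Ideal.quotientMapₐ (I.map (algebraMap B L)) (IsScalarTower.toAlgHom A B L)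
      Ideal.le_comap_map
    have hφ : ∀ b, φ (π b) = Ideal.Quotient.mk _ (algebraMap B L b) := fun _ => rfl
    have hu : IsUnit (φ ρ.1) := by
      rw [← hρ₀, hφ]
      exact (isUnit_of_dvd_unit (map_dvd _ ((dvd_mul_left ρ₀ c).trans (dvd_mul_right _ s₀)))
        (IsLocalization.Away.algebraMap_isUnit (S := L) (c * ρ₀ * s₀))).map _
    let ψ' : Localization.Away ρ.1 →ₐ[A] M := IsLocalization.liftAlgHom (M := Submonoid.powers ρ.1)
      (f := φ) fun y => by
        obtain ⟨k, hk⟩ := y.2
        rw [← show ρ.1 ^ k = y.1 from hk, map_pow]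
        exact hu.pow k
    refine Algebra.QuasiFinite.of_forall_exists_mul_mem_range ψ' fun x => ?_
    obtain ⟨l, rfl⟩ := Ideal.Quotient.mk_surjective x
    obtain ⟨⟨b, t⟩, hb⟩ := IsLocalization.surj (Submonoid.powers (c * ρ₀ * s₀)) l
    have hψ' : ∀ b, ψ' (algebraMap _ _ (π b)) = Ideal.Quotient.mk _ (algebraMap B L b) := fun b => by
      rw [← hφ]
      exact IsLocalization.lift_eq _ _
    refine ⟨algebraMap _ _ (π t.1), ?_, algebraMap _ _ (π b), ?_⟩
    · rw [hψ']
      exact (IsLocalization.map_units L t).map _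
    · show ψ' (algebraMap _ _ (π b)) = Ideal.Quotient.mk _ l * ψ' (algebraMap _ _ (π t.1))
      rw [hψ', hψ', ← map_mul]
      exact congrArg _ hb.symm

end Groth.Agent.FlatMorSlice
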