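import Groth.Prelude.Def_Mor2
import Groth.Agent.FlatMorSlice.CM
import Groth.Agent.SectionLib.FibreDVR
import Mathlib.AlgebraicGeometry.Morphisms.Flat

/-!
# From stalks to charts: fibre local rings, flatness, regular closed immersions
-/

universe u

set_option autoImplicit false
set_option backward.isDefEq.respectTransparency false

open AlgebraicGeometry CategoryTheory

namespace Groth.Agent.FlatMorSlice

variable {X S : Scheme.{u}} (f : X ⟶ S) {V : S.Opens} (hV : IsAffineOpen V) {U : X.Opens}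
  (hU : IsAffineOpen U) (e : U ≤ f ⁻¹ᵁ V) {x : X} (hx : x ∈ U)

theorem germ_appLE_eq :
    (X.presheaf.germ U x hx).hom.comp (f.appLE V U e).hom =
      (f.stalkMap x).hom.comp (S.presheaf.germ V (f x) (e hx)).hom := by
  rw [← CommRingCat.hom_comp, ← CommRingCat.hom_comp]
  congr 1
  rw [Scheme.Hom.appLE, Category.assoc, TopCat.Presheaf.germ_res, Scheme.Hom.germ_stalkMap]

include hV hU in
/-- The ideal of the fibre in the local ring, in terms of a chart. -/
theorem map_stalkMap_maximalIdeal_eq :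
    letI := (f.appLE V U e).hom.toAlgebra
    (IsLocalRing.maximalIdeal (S.presheaf.stalk (f x))).map (f.stalkMap x).hom =
      (((hU.primeIdealOf ⟨x, hx⟩).asIdeal.comap (algebraMap Γ(S, V) Γ(X, U))).map
        (algebraMap Γ(S, V) Γ(X, U))).map (X.presheaf.germ U x hx).hom := by
  let := (f.appLE V U e).hom.toAlgebra
  let := S.presheaf.algebra_section_stalk ⟨f x, e hx⟩
  have := hV.isLocalization_stalk ⟨f x, e hx⟩
  have hp : (hU.primeIdealOf ⟨x, hx⟩).asIdeal.comap (f.appLE V U e).hom =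
      (hV.primeIdealOf ⟨f x, e hx⟩).asIdeal :=
    congrArg PrimeSpectrum.asIdeal (IsAffineOpen.comap_primeIdealOf_appLE V hV U hU e hx)
  show _ = (((hU.primeIdealOf ⟨x, hx⟩).asIdeal.comap (f.appLE V U e).hom).map (f.appLE V U e).hom).map _
  rw [Ideal.map_map, germ_appLE_eq f e hx, hp, ← Ideal.map_map]
  congr 1
  exact (IsLocalization.AtPrime.map_eq_maximalIdeal (hV.primeIdealOf ⟨f x, e hx⟩).asIdeal
    (S.presheaf.stalk (f x))).symm

include hV in
/-- Flatness at a point, in a chart. -/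
theorem flat_localized_of_stalkMap (hflat : (f.stalkMap x).hom.Flat) :
    letI := (f.appLE V U e).hom.toAlgebra
    Module.Flat Γ(S, V) (LocalizedModule (hU.primeIdealOf ⟨x, hx⟩).asIdeal.primeCompl Γ(X, U)) := by
  let := (f.appLE V U e).hom.toAlgebra
  let := X.presheaf.algebra_section_stalk ⟨x, hx⟩
  have := hU.isLocalization_stalk ⟨x, hx⟩
  let := S.presheaf.algebra_section_stalk ⟨f x, e hx⟩
  have := hV.isLocalization_stalk ⟨f x, e hx⟩
  let := (f.stalkMap x).hom.toAlgebra
  let : Algebra Γ(S, V) (X.presheaf.stalk x) :=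
    ((algebraMap Γ(X, U) (X.presheaf.stalk x)).comp (f.appLE V U e).hom).toAlgebra
  have : IsScalarTower Γ(S, V) Γ(X, U) (X.presheaf.stalk x) := .of_algebraMap_eq' rfl
  have : IsScalarTower Γ(S, V) (S.presheaf.stalk (f x)) (X.presheaf.stalk x) :=
    .of_algebraMap_eq' (germ_appLE_eq f e hx)
  have : Module.Flat (S.presheaf.stalk (f x)) (X.presheaf.stalk x) := hflat
  have : Module.Flat Γ(S, V) (S.presheaf.stalk (f x)) :=
    IsLocalization.flat _ (hV.primeIdealOf ⟨f x, e hx⟩).asIdeal.primeCompl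
  have : Module.Flat Γ(S, V) (X.presheaf.stalk x) :=
    Module.Flat.trans Γ(S, V) (S.presheaf.stalk (f x)) _
  let q := (hU.primeIdealOf ⟨x, hx⟩).asIdeal
  have : IsLocalizedModule q.primeCompl
      (IsScalarTower.toAlgHom Γ(X, U) Γ(X, U) (X.presheaf.stalk x)).toLinearMap :=
    isLocalizedModule_iff_isLocalization.2 (by
      rw [show Algebra.algebraMapSubmonoid Γ(X, U) q.primeCompl = q.primeCompl from Submonoid.map_id _]
      infer_instance)
  exact Module.Flat.of_linearEquiv ((IsLocalizedModule.iso q.primeCompl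
    (IsScalarTower.toAlgHom Γ(X, U) Γ(X, U) (X.presheaf.stalk x)).toLinearMap).restrictScalars Γ(S, V))

include hV in
/-- The fibre local ring as a presentation over a chart. -/
theorem exists_fibPres :
    letI := (f.appLE V U e).hom.toAlgebra
    ∃ ψ : Γ(X, U) →+* (f.fiber (f x)).presheaf.stalk (f.asFiber x),
      FibPres Γ(S, V) (hU.primeIdealOf ⟨x, hx⟩).asIdeal ψ := by
  let := (f.appLE V U e).hom.toAlgebra
  obtain ⟨σ, hσ, hker⟩ := SectionLib.exists_fibre_quotient f x
  rw [map_stalkMap_maximalIdeal_eq f hV hU e hx] at hker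
  let := X.presheaf.algebra_section_stalk ⟨x, hx⟩
  have := hU.isLocalization_stalk ⟨x, hx⟩
  let q := (hU.primeIdealOf ⟨x, hx⟩).asIdeal
  have hunit : ∀ c, c ∉ q → IsUnit (algebraMap Γ(X, U) (X.presheaf.stalk x) c) :=
    fun c hc => IsLocalization.map_units (X.presheaf.stalk x) (⟨c, hc⟩ : q.primeCompl)
  refine ⟨σ.comp (algebraMap Γ(X, U) (X.presheaf.stalk x)), ⟨fun c hc => (hunit c hc).map σ,
    fun r => ?_, fun b hb => ?_, fun b hb => ?_⟩⟩
  · obtain ⟨z, rfl⟩ := hσ r
    obtain ⟨⟨b, c⟩, hbc⟩ := IsLocalization.surj q.primeCompl z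
    exact ⟨b, c.1, c.2, by rw [RingHom.comp_apply, RingHom.comp_apply, ← map_mul, hbc]⟩
  · have hb' : algebraMap Γ(X, U) (X.presheaf.stalk x) b ∈ ((q.comap (algebraMap Γ(S, V) Γ(X, U))).map
        (algebraMap Γ(S, V) Γ(X, U))).map (algebraMap Γ(X, U) (X.presheaf.stalk x)) := by
      rw [show algebraMap Γ(X, U) (X.presheaf.stalk x) = (X.presheaf.germ U x hx).hom from rfl, ← hker]
      exact RingHom.mem_ker.2 hb
    rw [IsLocalization.algebraMap_mem_map_algebraMap_iff q.primeCompl] at hb'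
    exact hb'
  · rw [RingHom.mem_ker, RingHom.comp_apply, ← RingHom.mem_ker, hker]
    exact Ideal.mem_map_of_mem _ hb

/-- A closed immersion of affine schemes cut out by a regular sequence is regular. -/
theorem isRegularClosedImmersion_of_iso {A : CommRingCat.{u}} {Y : Scheme.{u}} (η : Y ≅ Spec A)
    (rs : List A) (hrs : RingTheory.Sequence.IsRegular A rs) :
    Mor2.IsRegularClosedImmersion
      (Spec.map (CommRingCat.ofHom (Ideal.Quotient.mk (Ideal.ofList rs))) ≫ η.inv) := by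
  let φ : A ⟶ CommRingCat.of (A ⧸ Ideal.ofList rs) := CommRingCat.ofHom (Ideal.Quotient.mk _)
  have hφ : IsClosedImmersion (Spec.map φ) := IsClosedImmersion.spec_of_surjective _ Ideal.Quotient.mk_surjective
  let i := Spec.map φ ≫ η.inv
  have hi : IsClosedImmersion i := inferInstance
  have : IsAffine Y := .of_isIso η.hom
  refine ⟨hi, fun z => ⟨⊤, isAffineOpen_top Y, trivial, ?_⟩⟩
  let σ : A ≅ Γ(Y, ⊤) := (Scheme.ΓSpecIso A).symm ≪≫ asIso η.hom.appTop
  have hσ : σ.hom ≫ i.appTop = φ ≫ (Scheme.ΓSpecIso _).inv := by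
    have : η.hom.appTop ≫ η.inv.appTop = 𝟙 _ := by
      rw [← Scheme.Hom.comp_appTop, Iso.inv_hom_id, Scheme.Hom.id_appTop]
    simp only [σ, i, Iso.trans_hom, Iso.symm_hom, asIso_hom, Scheme.Hom.comp_appTop, Category.assoc]
    rw [reassoc_of% this, ← Scheme.ΓSpecIso_inv_naturality]
  refine ⟨rs.map σ.commRingCatIsoToRingEquiv.toRingHom, ?_, ?_⟩
  · refine (AddEquiv.isRegular_congr (e := σ.commRingCatIsoToRingEquiv.toAddEquiv) ?_).1 hrs
    exact List.forall₂_map_right_iff.2 (List.forall₂_same.2 fun r _ x => map_mul σ.commRingCatIsoToRingEquiv r x)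
  · rw [Scheme.Hom.ker_apply, ← Ideal.map_ofList]
    show RingHom.ker i.appTop.hom = (Ideal.ofList rs).map σ.commRingCatIsoToRingEquiv.toRingHom
    ext y
    obtain ⟨a, rfl⟩ : ∃ a, σ.hom a = y := ⟨σ.inv y, σ.inv_hom_id_apply y⟩
    rw [RingHom.mem_ker, show i.appTop.hom (σ.hom a) = (Scheme.ΓSpecIso _).inv (φ a) from
      ConcreteCategory.congr_hom hσ a]
    refine Iff.trans ?_ (Ideal.mem_map_of_equiv σ.commRingCatIsoToRingEquiv _).symm
    constructor
    · intro h
      refine ⟨a, Ideal.Quotient.eq_zero_iff_mem.1 ?_, rfl⟩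
      exact (ConcreteCategory.bijective_of_isIso (Scheme.ΓSpecIso _).inv).1 (h.trans (map_zero _).symm)
    · rintro ⟨b, hb, hba⟩
      obtain rfl : b = a := σ.commRingCatIsoToRingEquiv.injective hba
      rw [show φ b = 0 from Ideal.Quotient.eq_zero_iff_mem.2 hb, map_zero]

end Groth.Agent.FlatMorSlice
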