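import Groth.Agent.EGA43.InjFibre.General
import Groth.Agent.EGA43.FlatDescent.Global
import Groth.Agent.EGA43.FlatSyzygy
import Mathlib.RingTheory.Regular.RegularSequence
import Mathlib.RingTheory.Flat.Localization
import Mathlib.RingTheory.Localization.Away.AdjoinRoot
import Mathlib.RingTheory.TensorProduct.Finite

/-!
# Fibrewise regular sequences cut out flat subschemes near a point (EGA IV 11.3.8)
-/

universe u

set_option autoImplicit false
set_option backward.isDefEq.respectTransparency false

open Function

namespace Groth.Agent.FlatMorSlice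

variable {A B : Type u} [CommRing A] [CommRing B] [Algebra A B]

/-- Flatness of localised modules is invariant under isomorphisms. -/
theorem flat_localized_congr {M N : Type u} [AddCommGroup M] [Module B M] [Module A M]
    [IsScalarTower A B M] [AddCommGroup N] [Module B N] [Module A N] [IsScalarTower A B N]
    (e : M ≃ₗ[B] N) (S : Submonoid B) (h : Module.Flat A (LocalizedModule S M)) :
    Module.Flat A (LocalizedModule S N) := by
  have : IsLocalizedModule S ((LocalizedModule.mkLinearMap S N).comp e.toLinearMap) :=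
    IsLocalizedModule.of_linearEquiv_right S _ e
  exact Module.Flat.of_linearEquiv ((IsLocalizedModule.iso S
    ((LocalizedModule.mkLinearMap S N).comp e.toLinearMap)).restrictScalars A).symm

/-- Flatness of a principal localisation is tested at the primes of its open. -/
theorem flat_away_of_forall {Q : Type u} [AddCommGroup Q] [Module B Q] [Module A Q]
    [IsScalarTower A B Q] (c : B)
    (h : ∀ (r : Ideal B) [r.IsPrime], c ∉ r → Module.Flat A (LocalizedModule r.primeCompl Q)) :
    Module.Flat A (LocalizedModule (Submonoid.powers c) Q) := by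
  let L := LocalizedModule (Submonoid.powers c) Q
  refine Module.flat_of_isLocalized_maximal (S := Localization.Away c) (M := L)
    (Mₚ := fun P [P.IsMaximal] => LocalizedModule P.primeCompl L)
    (f := fun P [P.IsMaximal] => LocalizedModule.mkLinearMap P.primeCompl L) fun P hP => ?_
  let r := P.comap (algebraMap B (Localization.Away c))
  have hcr : c ∉ r := fun h => hP.ne_top
    (Ideal.eq_top_of_isUnit_mem _ h (IsLocalization.Away.algebraMap_isUnit c))
  have ht : ∀ t : Submonoid.powers c, t.1 ∉ r := by
    rintro ⟨_, k, rfl⟩ hk'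
    exact hcr (Ideal.IsPrime.mem_of_pow_mem (I := r) inferInstance k hk')
  let φ : Q →ₗ[B] LocalizedModule P.primeCompl L :=
    ((LocalizedModule.mkLinearMap P.primeCompl L).restrictScalars B).comp
      (LocalizedModule.mkLinearMap (Submonoid.powers c) Q)
  have hu : ∀ s : B, s ∉ r → IsUnit (algebraMap B (Module.End B (LocalizedModule P.primeCompl L)) s) := by
    intro s hs
    have h := (Module.End.isUnit_iff _).1 (IsLocalizedModule.map_units
      (LocalizedModule.mkLinearMap P.primeCompl L) ⟨algebraMap B (Localization.Away c) s, show algebraMap B (Localization.Away c) s ∈ P.primeCompl from hs⟩)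
    refine (Module.End.isUnit_iff _).2 ?_
    convert h using 1
    funext x
    exact (algebraMap_smul (Localization.Away c) s x).symm
  have : IsLocalizedModule r.primeCompl φ := by
    refine { map_units := fun s => hu s.1 s.2, surj := fun y => ?_, exists_of_eq := fun {a b'} e => ?_ }
    · obtain ⟨⟨l, σ⟩, hl⟩ := IsLocalizedModule.surj P.primeCompl (LocalizedModule.mkLinearMap P.primeCompl L) y
      obtain ⟨⟨m, t⟩, hm⟩ := IsLocalizedModule.surj (Submonoid.powers c) (LocalizedModule.mkLinearMap (Submonoid.powers c) Q) l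
      obtain ⟨⟨b, t'⟩, hb⟩ := IsLocalization.surj (Submonoid.powers c) σ.1
      have hbr : b ∉ r := fun hbr => by
        have : σ.1 * algebraMap B _ t'.1 ∈ P := hb ▸ hbr
        exact (hP.isPrime.mem_or_mem this).elim σ.2 (ht t')
      refine ⟨⟨t'.1 • m, ⟨t.1 * b, r.primeCompl.mul_mem (ht t) hbr⟩⟩, ?_⟩
      let g := (LocalizedModule.mkLinearMap P.primeCompl L).restrictScalars B
      have hl' : σ.1 • y = g l := hl
      have hm' : t.1 • l = LocalizedModule.mkLinearMap (Submonoid.powers c) Q m := hm
      calc (t.1 * b) • y = t.1 • b • y := mul_smul _ _ _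
        _ = t.1 • (σ.1 * algebraMap B _ t'.1) • y := by
          rw [show σ.1 * algebraMap B _ t'.1 = algebraMap B _ b from hb, algebraMap_smul]
        _ = t.1 • t'.1 • σ.1 • y := by rw [mul_comm, mul_smul, algebraMap_smul]
        _ = g (t'.1 • t.1 • l) := by rw [hl', map_smul, map_smul, smul_comm]
        _ = φ (t'.1 • m) := by rw [hm', map_smul, map_smul]; rfl
    · obtain ⟨σ, hσ⟩ := IsLocalizedModule.exists_of_eq (S := P.primeCompl)
        (f := LocalizedModule.mkLinearMap P.primeCompl L)
        (x₁ := LocalizedModule.mkLinearMap (Submonoid.powers c) Q a)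
        (x₂ := LocalizedModule.mkLinearMap (Submonoid.powers c) Q b') e
      obtain ⟨⟨b, t'⟩, hb⟩ := IsLocalization.surj (Submonoid.powers c) σ.1
      have hbr : b ∉ r := fun hbr => by
        have : σ.1 * algebraMap B _ t'.1 ∈ P := hb ▸ hbr
        exact (hP.isPrime.mem_or_mem this).elim σ.2 (ht t')
      have hb' : b • LocalizedModule.mkLinearMap (Submonoid.powers c) Q a =
          b • LocalizedModule.mkLinearMap (Submonoid.powers c) Q b' := by
        rw [← algebraMap_smul (Localization.Away c) b, ← hb, mul_comm, mul_smul, ← Submonoid.smul_def σ,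
          hσ, Submonoid.smul_def, ← mul_smul, mul_comm, hb, algebraMap_smul]
      rw [← map_smul, ← map_smul] at hb'
      obtain ⟨t, htm⟩ := IsLocalizedModule.exists_of_eq (S := Submonoid.powers c) hb'
      refine ⟨⟨t.1 * b, r.primeCompl.mul_mem (ht t) hbr⟩, ?_⟩
      simp only [Submonoid.mk_smul, mul_smul]
      exact htm
  have := h r hcr
  exact Module.Flat.of_linearEquiv ((IsLocalizedModule.iso r.primeCompl φ).restrictScalars A).symm

open EGA43.InjFibre in
/-- One step: a fibrewise injective multiplication on a flat module. -/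
theorem exists_regular_step [Algebra.FinitePresentation A B] {M : Type u} [AddCommGroup M]
    [Module B M] [Module A M] [IsScalarTower A B M] [Module.FinitePresentation B M] (f : B)
    (q : PrimeSpectrum B) (hM : Module.Flat A (LocalizedModule q.asIdeal.primeCompl M))
    (hf : FibInjAt A B (LinearMap.lsmul B M f) q) :
    ∃ c ∉ q.asIdeal, (∀ m : M, f • m = 0 → ∃ k : ℕ, c ^ k • m = 0) ∧
      ∀ (r : Ideal B) [r.IsPrime], c ∉ r →
        Module.Flat A (LocalizedModule r.primeCompl (M ⧸ LinearMap.range (LinearMap.lsmul B M f))) := by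
  classical
  let w := LinearMap.lsmul B M f
  have hu : UInjAt A B w q := uInjAt_of_fibInjAt hM hf
  have hflat := hu.flat_coker hM (LinearMap.range w).mkQ (Submodule.mkQ_surjective _)
    (LinearMap.exact_map_mkQ_range w)
  have : Module.FinitePresentation B (M ⧸ LinearMap.range w) :=
    Module.finitePresentation_of_surjective _ (LinearMap.range w).mkQ_surjective
      (by rw [Submodule.ker_mkQ]; exact Module.Finite.iff_fg.1 inferInstance)
  obtain ⟨_, ⟨_, ⟨c₁, rfl⟩, rfl⟩, hc₁, hle⟩ :=
    PrimeSpectrum.isBasis_basic_opens.exists_subset_of_mem_open (show q ∈ _ from hflat)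
      (EGA43.FlatDescent.isOpen_setOf_flat (A := A) (S := B) (N := M ⧸ LinearMap.range w))
  have hfl : ∀ (r : Ideal B) [r.IsPrime], c₁ ∉ r →
      Module.Flat A (LocalizedModule r.primeCompl (M ⧸ LinearMap.range w)) := fun r _ hr =>
    hle (a := ⟨r, inferInstance⟩) hr
  let N := LocalizedModule (Submonoid.powers c₁) M
  let S := Localization.Away c₁
  let w' : N →ₗ[S] N := LinearMap.lsmul S N (algebraMap B S f)
  have : Algebra.FinitePresentation A S := by
    have := IsLocalization.Away.finitePresentation c₁ (S := S)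
    exact .trans A B _
  have : Module.FinitePresentation S N := FinitePresentation.of_isBaseChange
    (LocalizedModule.mkLinearMap (Submonoid.powers c₁) M)
    (IsLocalizedModule.isBaseChange (Submonoid.powers c₁) S _)
  have hw' : ⇑w' = ⇑(LocalizedModule.map (Submonoid.powers c₁) w) := funext fun x => by
    induction x using LocalizedModule.induction_on with
    | h m s =>
      rw [LocalizedModule.map_mk]
      show algebraMap B S f • LocalizedModule.mk m s = _
      rw [algebraMap_smul, LocalizedModule.smul'_mk]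
      rfl
  let π := LocalizedModule.map (Submonoid.powers c₁) (LinearMap.range w).mkQ
  have hπ : LinearMap.ker π = LinearMap.range w' := by
    ext x
    rw [LinearMap.mem_ker, LinearMap.mem_range, hw']
    exact LocalizedModule.map_exact (Submonoid.powers c₁) w _ (LinearMap.exact_map_mkQ_range w) x
  have : Module.Flat A (N ⧸ LinearMap.range w') := by
    have := flat_away_of_forall c₁ hfl
    exact Module.Flat.of_linearEquiv (((Submodule.quotEquivOfEq _ _ hπ.symm).trans
      (LinearMap.quotKerEquivOfSurjective π (LocalizedModule.map_surjective _ _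
        (Submodule.mkQ_surjective _)))).restrictScalars A)
  obtain ⟨s, hs⟩ := EGA43.FlatSyzygy.fg_ker_of_flat_quotient (A := A) w'
  have hkill : ∀ n ∈ s, ∃ d ∉ q.asIdeal, d • n = 0 := fun n hn => by
    have hn : w' n = 0 := (hs ▸ Submodule.subset_span hn : n ∈ LinearMap.ker w')
    rw [hw'] at hn
    induction n using LocalizedModule.induction_on with
    | h m t =>
      rw [LocalizedModule.map_mk] at hn
      obtain ⟨v, hv⟩ := LocalizedModule.mk_eq.1 (hn.trans (LocalizedModule.zero_mk 1).symm)
      simp only [one_smul, smul_zero] at hv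
      obtain ⟨d, hd, hdm⟩ := hu.exists_smul_eq_zero (m := v • m)
        (by rw [Submonoid.smul_def, map_smul]; exact hv)
      refine ⟨d, hd, ?_⟩
      rw [LocalizedModule.smul'_mk, ← LocalizedModule.zero_mk 1, LocalizedModule.mk_eq]
      refine ⟨v, ?_⟩
      simp only [one_smul, smul_zero, Submonoid.smul_def] at hdm ⊢
      rw [smul_comm]
      exact hdm
  choose! d hd hdn using hkill
  let D := ∏ n ∈ s, d n
  refine ⟨c₁ * D, q.asIdeal.primeCompl.mul_mem hc₁
      (q.asIdeal.primeCompl.prod_mem fun n hn => hd n hn), fun m hm => ?_,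
    fun r _ hr => hfl r fun h => hr (r.mul_mem_right _ h)⟩
  have hmker : LocalizedModule.mk m 1 ∈ LinearMap.ker w' := by
    rw [LinearMap.mem_ker, hw', LocalizedModule.map_mk, show w m = 0 from hm, LocalizedModule.zero_mk]
  rw [← hs] at hmker
  have hD : algebraMap B S D • LocalizedModule.mk m (1 : Submonoid.powers c₁) = 0 := by
    refine Submodule.span_induction (p := fun x _ => algebraMap B S D • x = 0) (fun x hx => ?_)
      (smul_zero _) (fun x y _ _ hx hy => by rw [smul_add, hx, hy, add_zero])
      (fun a x _ hx => by rw [smul_comm, hx, smul_zero]) hmker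
    rw [algebraMap_smul, show D = (∏ n ∈ s.erase x, d n) * d x from
      (Finset.prod_erase_mul _ _ hx).symm, mul_smul, hdn x hx, smul_zero]
  rw [algebraMap_smul, LocalizedModule.smul'_mk, ← LocalizedModule.zero_mk 1,
    LocalizedModule.mk_eq] at hD
  obtain ⟨⟨_, j, rfl⟩, hj⟩ := hD
  simp only [one_smul, smul_zero] at hj
  change c₁ ^ j • D • m = 0 at hj
  refine ⟨j + 1, ?_⟩
  rw [mul_pow, pow_succ D, ← mul_assoc, mul_smul, show c₁ ^ (j + 1) * D ^ j = (c₁ * D ^ j) * c₁ ^ j by ring,
    mul_smul, hj, smul_zero]

/-- `rs` is a regular sequence on the localised fibre at `q`. -/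
def FibReg (A : Type u) [CommRing A] {B : Type u} [CommRing B] [Algebra A B] (q : Ideal B)
    (rs : List B) : Prop :=
  ∀ (i : ℕ) (hi : i < rs.length) (x : B),
    (∃ c ∉ q, c * (rs[i] * x) ∈ (q.comap (algebraMap A B)).map (algebraMap A B) ⊔ Ideal.ofList (rs.take i)) →
      ∃ c ∉ q, c * x ∈ (q.comap (algebraMap A B)).map (algebraMap A B) ⊔ Ideal.ofList (rs.take i)

theorem mem_smul_top_quotient_iff (p : Ideal A) (I : Ideal B) (y : B) :
    (Ideal.Quotient.mk I y : B ⧸ I) ∈ p • (⊤ : Submodule A (B ⧸ I)) ↔
      y ∈ p.map (algebraMap A B) ⊔ I := by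
  rw [Ideal.smul_top_eq_map, Submodule.restrictScalars_mem, IsScalarTower.algebraMap_eq A B (B ⧸ I),
    ← Ideal.map_map, Ideal.Quotient.algebraMap_eq, ← Ideal.mem_comap,
    Ideal.comap_map_of_surjective _ Ideal.Quotient.mk_surjective, ← RingHom.ker_eq_comap_bot,
    Ideal.mk_ker]

open EGA43.InjFibre in
/-- **EGA IV 11.3.8**: a sequence regular on the fibre is regular, with flat quotient, near the point. -/
theorem exists_regular_sequence [Algebra.FinitePresentation A B] (q : PrimeSpectrum B)
    (hq : Module.Flat A (LocalizedModule q.asIdeal.primeCompl B)) (rs : List B)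
    (hr : FibReg A q.asIdeal rs) :
    ∃ c ∉ q.asIdeal,
      (∀ (i : ℕ) (hi : i < rs.length) (x : B), rs[i] * x ∈ Ideal.ofList (rs.take i) →
        ∃ k : ℕ, c ^ k * x ∈ Ideal.ofList (rs.take i)) ∧
      ∀ (r : Ideal B) [r.IsPrime], c ∉ r →
        Module.Flat A (LocalizedModule r.primeCompl (B ⧸ Ideal.ofList rs)) := by
  classical
  suffices ∀ i ≤ rs.length, ∃ c ∉ q.asIdeal,
      (∀ (j : ℕ) (hj : j < rs.length) (x : B), j < i → rs[j] * x ∈ Ideal.ofList (rs.take j) →
        ∃ k : ℕ, c ^ k * x ∈ Ideal.ofList (rs.take j)) ∧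
      ∀ (r : Ideal B) [r.IsPrime], c ∉ r →
        Module.Flat A (LocalizedModule r.primeCompl (B ⧸ Ideal.ofList (rs.take i))) by
    obtain ⟨c, hc, h₁, h₂⟩ := this rs.length le_rfl
    rw [List.take_length] at h₂
    exact ⟨c, hc, fun i hi x hx => h₁ i hi x hi hx, h₂⟩
  intro i
  induction i with
  | zero =>
    intro _
    have e : B ≃ₗ[B] B ⧸ Ideal.ofList (rs.take 0) :=
      (Submodule.quotEquivOfEqBot _ (by rw [List.take_zero, Ideal.ofList_nil])).symm
    obtain ⟨_, ⟨_, ⟨c, rfl⟩, rfl⟩, hc, hle⟩ :=
      PrimeSpectrum.isBasis_basic_opens.exists_subset_of_mem_open (show q ∈ _ from hq)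
        (EGA43.FlatDescent.isOpen_setOf_flat (A := A) (S := B) (N := B))
    exact ⟨c, hc, fun j _ _ h => absurd h (Nat.not_lt_zero j), fun r _ hr =>
      flat_localized_congr e _ (hle (a := ⟨r, inferInstance⟩) hr)⟩
  | succ i ih =>
    intro hi
    obtain ⟨c, hc, h₁, h₂⟩ := ih (Nat.le_of_succ_le hi)
    let I := Ideal.ofList (rs.take i)
    have : Module.FinitePresentation B (B ⧸ I) :=
      Module.finitePresentation_of_surjective _ I.mkQ_surjective (by
        rw [Submodule.ker_mkQ]
        exact ⟨(rs.take i).toFinset, by rw [List.coe_toFinset]⟩)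
    obtain ⟨d, hd, h₃, h₄⟩ := exists_regular_step (M := B ⧸ I) rs[i] q (h₂ q.asIdeal hc) (by
      intro m hm
      obtain ⟨x, rfl⟩ := Ideal.Quotient.mk_surjective m
      obtain ⟨e, he, hex⟩ := hm
      obtain ⟨e', he', hex'⟩ := hr i (Nat.lt_of_succ_le hi) x ⟨e, he,
        (mem_smul_top_quotient_iff _ I _).1 hex⟩
      exact ⟨e', he', (mem_smul_top_quotient_iff _ I _).2 hex'⟩)
    refine ⟨c * d, q.asIdeal.primeCompl.mul_mem hc hd, fun j hj x hji hx => ?_, fun r _ hr' => ?_⟩
    · rcases Nat.lt_succ_iff_lt_or_eq.1 hji with hlt | rfl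
      · obtain ⟨k, hk⟩ := h₁ j hj x hlt hx
        exact ⟨k, by rw [mul_pow, mul_comm (c ^ k), mul_assoc]; exact Ideal.mul_mem_left _ _ hk⟩
      · obtain ⟨k, hk⟩ := h₃ (Ideal.Quotient.mk I x) (by
          show Ideal.Quotient.mk I (rs[j] * x) = 0
          exact Ideal.Quotient.eq_zero_iff_mem.2 hx)
        refine ⟨k, ?_⟩
        rw [mul_pow, mul_assoc]
        exact Ideal.mul_mem_left _ _ (Ideal.Quotient.eq_zero_iff_mem.1 hk)
    · let I' := Ideal.ofList (rs.take (i + 1))
      have hI' : I' = I ⊔ Ideal.span {rs[i]} := by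
        show Ideal.ofList _ = _
        rw [List.take_succ_eq_append_getElem (Nat.lt_of_succ_le hi), Ideal.ofList_append,
          Ideal.ofList_singleton]
      let π : (B ⧸ I) →ₗ[B] B ⧸ I' := Submodule.factor (hI' ▸ le_sup_left)
      have hπs : Surjective π := fun y => by
        obtain ⟨y, rfl⟩ := Submodule.mkQ_surjective I' y
        exact ⟨I.mkQ y, rfl⟩
      have hπk : LinearMap.ker π = LinearMap.range (LinearMap.lsmul B (B ⧸ I) rs[i]) := by
        ext y
        obtain ⟨y, rfl⟩ := Submodule.mkQ_surjective I y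
        show π (I.mkQ y) = 0 ↔ _
        rw [show π (I.mkQ y) = I'.mkQ y from rfl, Submodule.mkQ_apply, Submodule.mkQ_apply,
          Submodule.Quotient.mk_eq_zero, hI', LinearMap.mem_range]
        constructor
        · intro h
          obtain ⟨a, ha, b, hb, rfl⟩ := Submodule.mem_sup.1 h
          obtain ⟨z, rfl⟩ := Ideal.mem_span_singleton'.1 hb
          refine ⟨Submodule.Quotient.mk z, ?_⟩
          rw [LinearMap.lsmul_apply, ← Submodule.Quotient.mk_smul, Submodule.Quotient.eq]
          have : rs[i] • z - (a + z * rs[i]) = -a := by rw [smul_eq_mul]; ring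
          rw [this]; exact I.neg_mem ha
        · rintro ⟨z, hz⟩
          obtain ⟨z, rfl⟩ := Submodule.mkQ_surjective I z
          rw [LinearMap.lsmul_apply, Submodule.mkQ_apply, ← Submodule.Quotient.mk_smul,
            Submodule.Quotient.eq] at hz
          have : y = rs[i] • z - (rs[i] • z - y) := by ring
          rw [this]
          exact Submodule.sub_mem _ (Ideal.mem_sup_right (Ideal.mem_span_singleton'.2 ⟨z, by rw [smul_eq_mul, mul_comm]⟩))
            (Ideal.mem_sup_left hz)
      exact flat_localized_congr ((Submodule.quotEquivOfEq _ _ hπk.symm).trans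
        (LinearMap.quotKerEquivOfSurjective π hπs)) _ (h₄ r fun h => hr' (r.mul_mem_left _ h))

end Groth.Agent.FlatMorSlice
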