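import Groth.Agent.EGA43.InjFibre.General
import Groth.Agent.EGA43.FlatDescent.Global
import Mathlib.RingTheory.ZariskisMainTheorem
import Mathlib.RingTheory.Flat.Localization
import Mathlib.RingTheory.Ideal.AssociatedPrime.Finiteness
import Mathlib.RingTheory.Ideal.AssociatedPrime.Localization
import Mathlib.RingTheory.KrullDimension.Polynomial
import Mathlib.Algebra.Module.LocalizedModule.IsLocalization
import Mathlib.RingTheory.Localization.Away.AdjoinRoot

/-!
# Quasi-finite flat slices of flat finitely presented algebras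
-/

universe u

set_option autoImplicit false
set_option backward.isDefEq.respectTransparency false

open TensorProduct Function

namespace Groth.Agent.FlatMorSlice

variable {A B : Type u} [CommRing A] [CommRing B] [Algebra A B]

/-- The flat locus of a finitely presented algebra is covered by flat localisations. -/
theorem exists_away_flat [Algebra.FinitePresentation A B] (q : Ideal B) [q.IsPrime]
    (hq : Module.Flat A (LocalizedModule q.primeCompl B)) {e : B} (he : e ∉ q) :
    ∃ c, c * e ∉ q ∧ Module.Flat A (Localization.Away (c * e)) := by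
  have hopen := EGA43.FlatDescent.isOpen_setOf_flat (A := A) (S := B) (N := B)
  obtain ⟨_, ⟨_, ⟨c, rfl⟩, rfl⟩, hqc, hle⟩ :=
    PrimeSpectrum.isBasis_basic_opens.exists_subset_of_mem_open (show (⟨q, inferInstance⟩ : PrimeSpectrum B) ∈ _ from hq) hopen
  refine ⟨c, q.primeCompl.mul_mem hqc he,
    Module.flat_of_isLocalized_maximal (R := A) (S := Localization.Away (c * e))
    (M := Localization.Away (c * e))
    (Mₚ := fun P [P.IsMaximal] => Localization.AtPrime P)
    (f := fun P [P.IsMaximal] => Algebra.linearMap _ _)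
    fun P _ => ?_⟩
  let r := P.comap (algebraMap B (Localization.Away (c * e)))
  have hcr : c ∉ r := fun h => ‹P.IsMaximal›.ne_top
    (Ideal.eq_top_of_isUnit_mem _ (show algebraMap B _ (c * e) ∈ P from r.mul_mem_right e h)
      (IsLocalization.Away.algebraMap_isUnit (c * e)))
  have hflat : Module.Flat A (LocalizedModule r.primeCompl B) := hle (a := ⟨r, inferInstance⟩) hcr
  have : IsLocalization.AtPrime (Localization.AtPrime P) r :=
    IsLocalization.isLocalization_isLocalization_atPrime_isLocalization (Submonoid.powers (c * e)) _ P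
  have : IsLocalizedModule r.primeCompl
      (IsScalarTower.toAlgHom B B (Localization.AtPrime P)).toLinearMap :=
    isLocalizedModule_iff_isLocalization.2 (by
      rw [show Algebra.algebraMapSubmonoid B r.primeCompl = r.primeCompl from Submonoid.map_id _]
      infer_instance)
  exact Module.Flat.of_linearEquiv ((IsLocalizedModule.iso r.primeCompl
    (IsScalarTower.toAlgHom B B (Localization.AtPrime P)).toLinearMap).restrictScalars A).symm

/-- Some element of a fibre ring avoids a given non-maximal minimal prime and cuts it properly. -/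
theorem exists_cut (p : Ideal A) [p.IsPrime] [Algebra.FiniteType A B]
    (P : Ideal (p.Fiber B)) (hP : P ∈ minimalPrimes (p.Fiber B)) (hPm : ¬ P.IsMaximal) :
    ∃ (g f : B) (m : Ideal (p.Fiber B)), m.IsMaximal ∧
      Algebra.TensorProduct.includeRight g ∉ m ∧ Algebra.TensorProduct.includeRight f ∈ m ∧
      Algebra.TensorProduct.includeRight f ∉ P ∧
      ∀ Q ∈ associatedPrimes (p.Fiber B) (p.Fiber B), Q ≠ P → Algebra.TensorProduct.includeRight g ∈ Q := by
  classical
  have hPp := hP.isPrime
  have : IsNoetherianRing (p.Fiber B) := Algebra.FiniteType.isNoetherianRing p.ResidueField _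
  have : IsJacobsonRing (p.Fiber B) := isJacobsonRing_of_finiteType (A := p.ResidueField)
  have hfin := associatedPrimes.finite (p.Fiber B) (p.Fiber B)
  have hlift : ∀ (x : p.Fiber B), ∃ (b : B) (u : p.Fiber B), IsUnit u ∧
      Algebra.TensorProduct.includeRight b = u * x := fun x => by
    obtain ⟨r, hr, b, hb⟩ := Ideal.Fiber.exists_smul_eq_one_tmul p x
    refine ⟨b, algebraMap A _ r, ?_, ?_⟩
    · rw [IsScalarTower.algebraMap_apply A p.ResidueField]
      exact (IsUnit.mk0 _ (by rwa [ne_eq, Ideal.algebraMap_residueField_eq_zero])).map _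
    · rw [← Algebra.smul_def, hb]; rfl
  have hQ : ∀ Q ∈ hfin.toFinset.erase P, ∃ x ∈ Q, x ∉ P := fun Q hQ => by
    obtain ⟨hne, hQ⟩ := Finset.mem_erase.1 hQ
    refine SetLike.not_le_iff_exists.1 fun hle => hne (le_antisymm hle ?_)
    exact hP.2 ⟨(hfin.mem_toFinset.1 hQ).isPrime, bot_le⟩ hle
  choose! x hxQ hxP using hQ
  let g₀ := ∏ Q ∈ hfin.toFinset.erase P, x Q
  have hg₀ : g₀ ∉ P := fun h => by
    obtain ⟨Q, hQ, hxQ'⟩ := Ideal.IsPrime.prod_mem_iff.1 h
    exact hxP Q hQ hxQ'
  obtain ⟨g, u, hu, hg⟩ := hlift g₀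
  obtain ⟨m, ⟨hPm', hm⟩, hgm⟩ : ∃ m : Ideal (p.Fiber B), (P ≤ m ∧ m.IsMaximal) ∧ g₀ ∉ m := by
    by_contra! h
    refine hg₀ ?_
    rw [← (isJacobsonRing_iff.1 ‹IsJacobsonRing (p.Fiber B)› P hPp.isRadical), Ideal.jacobson, Ideal.mem_sInf]
    exact fun {J} hJ => h J hJ
  obtain ⟨f₀, hf₀m, hf₀P⟩ := SetLike.not_le_iff_exists.1
    (show ¬ m ≤ P from fun hle => hPm (le_antisymm hle hPm' ▸ hm))
  obtain ⟨f, v, hv, hf⟩ := hlift f₀
  refine ⟨g, f, m, hm, ?_, hf ▸ m.mul_mem_left _ hf₀m, ?_, fun Q hQ hne => hg ▸ Q.mul_mem_left _ ?_⟩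
  · rw [hg]
    exact fun h => (hm.isPrime.mem_or_mem h).elim (fun h' => hm.ne_top (Ideal.eq_top_of_isUnit_mem _ h' hu)) hgm
  · rw [hf]
    exact fun h => (hPp.mem_or_mem h).elim (fun h' => hPp.ne_top (Ideal.eq_top_of_isUnit_mem _ h' hv)) hf₀P
  · have hQ' := Finset.mem_erase.2 ⟨hne, hfin.mem_toFinset.2 hQ⟩
    exact Q.mem_of_dvd (Finset.dvd_prod_of_mem x hQ') (hxQ Q hQ')

/-- An element killed in the fibre over `p` is killed, up to a multiplier outside `p`, modulo `p`. -/
theorem exists_smul_mem_of_fiber_eq_zero (p : Ideal A) [p.IsPrime] {x : B}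
    (hx : (Algebra.TensorProduct.includeRight x : p.Fiber B) = 0) :
    ∃ t ∉ p, t • x ∈ p.map (algebraMap A B) := by
  let _ : Algebra B (p.Fiber B) := Algebra.TensorProduct.rightAlgebra
  have h := congrArg (Ideal.Fiber.algEquivAux₁ p) (show algebraMap B (p.Fiber B) x = 0 from hx)
  rw [map_zero, AlgEquiv.commutes, IsScalarTower.algebraMap_apply B (Localization
    (Algebra.algebraMapSubmonoid B p.primeCompl)), Ideal.Quotient.algebraMap_eq,
    Ideal.Quotient.eq_zero_iff_mem,
    IsLocalization.algebraMap_mem_map_algebraMap_iff (Algebra.algebraMapSubmonoid B p.primeCompl)] at h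
  obtain ⟨_, ⟨t, ht, rfl⟩, htx⟩ := h
  exact ⟨t, ht, by rw [Algebra.smul_def]; exact htx⟩

open EGA43.InjFibre in
/-- The cut is injective on the fibre. -/
theorem fibInjAt_cut (p : Ideal A) [p.IsPrime] [Algebra.FiniteType A B] (P : Ideal (p.Fiber B))
    {g f : B} (hf : Algebra.TensorProduct.includeRight f ∉ P)
    (hg : ∀ Q ∈ associatedPrimes (p.Fiber B) (p.Fiber B), Q ≠ P → Algebra.TensorProduct.includeRight g ∈ Q)
    (r : PrimeSpectrum B) (hr : r.asIdeal.comap (algebraMap A B) = p) (hgr : g ∉ r.asIdeal) :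
    FibInjAt A B (LinearMap.lsmul B B f) r := by
  have : IsNoetherianRing (p.Fiber B) := Algebra.FiniteType.isNoetherianRing p.ResidueField _
  have : r.asIdeal.LiesOver p := ⟨hr.symm⟩
  let ι : B →ₐ[A] p.Fiber B := Algebra.TensorProduct.includeRight
  obtain ⟨R, hR⟩ : ∃ R : PrimeSpectrum (p.Fiber B), R.asIdeal.comap ι.toRingHom = r.asIdeal := by
    refine ⟨PrimeSpectrum.primesOverOrderIsoFiber A B p ⟨r.asIdeal, r.2, ⟨hr.symm⟩⟩, ?_⟩
    have := PrimeSpectrum.coe_primesOverOrderIsoFiber_symm_apply (S := B) p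
      (PrimeSpectrum.primesOverOrderIsoFiber A B p ⟨r.asIdeal, r.2, ⟨hr.symm⟩⟩)
    rw [OrderIso.symm_apply_apply] at this
    exact this.symm
  have hmem : ∀ b, b ∈ p.map (algebraMap A B) → ι b = 0 := fun b hb => by
    refine RingHom.mem_ker.1 ((Ideal.map_le_iff_le_comap.2 fun a ha => ?_) hb)
    rw [Ideal.mem_comap, RingHom.mem_ker]
    show ι (algebraMap A B a) = 0
    rw [AlgHom.commutes, IsScalarTower.algebraMap_apply A p.ResidueField,
      Ideal.algebraMap_residueField_eq_zero.2 ha, map_zero]
  intro x hx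
  obtain ⟨c, hc, hcx⟩ := hx
  rw [hr] at hcx ⊢
  rw [Ideal.smul_top_eq_map, Submodule.restrictScalars_mem] at hcx
  simp only [LinearMap.lsmul_apply, smul_eq_mul] at hcx
  have h0 : ι c * ι f * ι x = 0 := by rw [← map_mul, ← map_mul, mul_assoc]; exact hmem _ hcx
  -- the annihilator of `ι x` is not contained in `R`
  obtain ⟨u, hu, huR⟩ : ∃ u, u * ι x = 0 ∧ u ∉ R.asIdeal := by
    by_contra! h
    let N : Submodule (p.Fiber B) (p.Fiber B) := Submodule.span _ {ι x}
    have hann : ∀ u, u ∈ Module.annihilator (p.Fiber B) N ↔ u * ι x = 0 := fun u => by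
      rw [Submodule.mem_annihilator_span_singleton]; rfl
    obtain ⟨Q, hQ, hQR⟩ := Ideal.exists_minimalPrimes_le (J := R.asIdeal)
      (I := Module.annihilator (p.Fiber B) N) fun u hu => h u ((hann u).1 hu)
    have hQass := associatedPrimes.subset_of_injective (f := N.subtype) N.injective_subtype
      (Module.associatedPrimes.minimalPrimes_annihilator_subset_associatedPrimes (p.Fiber B) N hQ)
    have hcf : ι c * ι f ∈ Q := hQ.1.2 ((hann _).2 h0)
    have hfQ : ι f ∈ Q := (hQ.isPrime.mem_or_mem hcf).resolve_left fun hcQ => hc (by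
      rw [← hR]; exact hQR hcQ)
    by_cases hne : Q = P
    · exact hf (hne ▸ hfQ)
    · exact hgr (by rw [← hR]; exact hQR (hg Q hQass hne))
  -- lift `u`
  obtain ⟨s, hs, b, hb⟩ := Ideal.Fiber.exists_smul_eq_one_tmul p u
  have hbr : b ∉ r.asIdeal := fun hbr => by
    rw [← hR] at hbr
    have hmem' : algebraMap A (p.Fiber B) s * u ∈ R.asIdeal := by
      rw [← Algebra.smul_def, hb]; exact hbr
    rcases R.2.mem_or_mem hmem' with h | h
    · rw [IsScalarTower.algebraMap_apply A p.ResidueField] at h
      exact R.2.ne_top (Ideal.eq_top_of_isUnit_mem _ h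
        ((IsUnit.mk0 _ (by rwa [ne_eq, Ideal.algebraMap_residueField_eq_zero])).map _))
    · exact huR h
  have hbx : ι (b * x) = 0 := by
    rw [map_mul, show ι b = algebraMap A _ s * u by rw [← Algebra.smul_def, hb]; rfl, mul_assoc, hu,
      mul_zero]
  obtain ⟨t, ht, htb⟩ := exists_smul_mem_of_fiber_eq_zero p hbx
  refine ⟨algebraMap A B t * b, r.asIdeal.primeCompl.mul_mem
    (show algebraMap A B t ∉ r.asIdeal from fun h => ht (hr ▸ h)) hbr, ?_⟩
  rw [Ideal.smul_top_eq_map, Submodule.restrictScalars_mem, smul_eq_mul, mul_assoc,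
    ← Algebra.smul_def]
  exact htb

open EGA43.InjFibre in
/-- Flatness of the cut at a prime. -/
theorem flat_localized_cut [Algebra.FinitePresentation A B] [Module.Flat A B] (f : B)
    (r : PrimeSpectrum B) (h : FibInjAt A B (LinearMap.lsmul B B f) r)
    (r' : Ideal (B ⧸ Ideal.span {f})) [r'.IsPrime] (hr' : r'.comap (Ideal.Quotient.mk _) = r.asIdeal) :
    Module.Flat A (LocalizedModule r'.primeCompl (B ⧸ Ideal.span {f})) := by
  have : Module.FinitePresentation B B := inferInstance
  have hB : Module.Flat A (LocalizedModule r.asIdeal.primeCompl B) :=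
    Module.Flat.trans A B _
  have hu := uInjAt_of_fibInjAt hB h
  have h2 := hu.flat_coker hB (Ideal.span {f}).mkQ (Submodule.mkQ_surjective _) (fun x => by
    rw [Submodule.mkQ_apply, Submodule.Quotient.mk_eq_zero, Ideal.mem_span_singleton']
    exact ⟨fun ⟨a, ha⟩ => ⟨a, by simp [← ha, mul_comm]⟩, fun ⟨a, ha⟩ => ⟨a, by simp [← ha, mul_comm]⟩⟩)
  have : r'.LiesOver r.asIdeal := ⟨hr'.symm⟩
  have hM : Algebra.algebraMapSubmonoid (B ⧸ Ideal.span {f}) r.asIdeal.primeCompl = r'.primeCompl :=
    Ideal.algebraMapSubmonoid_primeCompl_of_liesOver_surjective r' r.asIdeal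
      Ideal.Quotient.mk_surjective
  have : IsLocalizedModule r.asIdeal.primeCompl (IsScalarTower.toAlgHom B (B ⧸ Ideal.span {f})
      (Localization r'.primeCompl)).toLinearMap :=
    isLocalizedModule_iff_isLocalization.2 (by rw [hM]; infer_instance)
  exact Module.Flat.of_linearEquiv ((IsLocalizedModule.iso r.asIdeal.primeCompl
    (IsScalarTower.toAlgHom B (B ⧸ Ideal.span {f})
      (Localization r'.primeCompl)).toLinearMap).restrictScalars A).symm

/-- Comap along an algebra map of spectra of fibres, as a map. -/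
theorem exists_fiberSpec_map {C : Type u} [CommRing C] [Algebra A C] (ψ : B →ₐ[A] C)
    (hψ : ∀ I J : Ideal C, I.IsPrime → J.IsPrime → I.comap ψ.toRingHom ≤ J.comap ψ.toRingHom → I ≤ J)
    (p : Ideal A) [p.IsPrime] :
    ∃ φ : PrimeSpectrum (p.Fiber C) → PrimeSpectrum (p.Fiber B), StrictMono φ ∧
      ∀ Q b, (Algebra.TensorProduct.includeRight b ∈ (φ Q).asIdeal ↔
        (Algebra.TensorProduct.includeRight (ψ b) : p.Fiber C) ∈ Q.asIdeal) := by
  let eC := PrimeSpectrum.primesOverOrderIsoFiber A C p
  let eB := PrimeSpectrum.primesOverOrderIsoFiber A B p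
  let down : p.primesOver C → p.primesOver B := fun I => ⟨I.1.comap ψ.toRingHom,
    I.2.1.comap _, ⟨by
      rw [Ideal.under_def, Ideal.comap_comap,
        show (ψ.toRingHom).comp (algebraMap A B) = algebraMap A C from ψ.comp_algebraMap]
      exact I.2.2.over⟩⟩
  have hdown : StrictMono down := fun I J hIJ =>
    lt_of_le_not_ge (Ideal.comap_mono hIJ.le) fun h => hIJ.not_ge (hψ _ _ J.2.1 I.2.1 h)
  refine ⟨eB ∘ down ∘ eC.symm, eB.strictMono.comp (hdown.comp eC.symm.strictMono), fun Q b => ?_⟩
  have h1 : (eB.symm (eB (down (eC.symm Q)))).1 =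
      (eB (down (eC.symm Q))).1.comap Algebra.TensorProduct.includeRight :=
    PrimeSpectrum.coe_primesOverOrderIsoFiber_symm_apply p _
  rw [OrderIso.symm_apply_apply] at h1
  have h2 : (eC.symm Q).1 = Q.1.comap Algebra.TensorProduct.includeRight :=
    PrimeSpectrum.coe_primesOverOrderIsoFiber_symm_apply p _
  show b ∈ (eB (down (eC.symm Q))).1.comap Algebra.TensorProduct.includeRight ↔
    ψ b ∈ Q.1.comap Algebra.TensorProduct.includeRight
  rw [← h1, ← h2]
  rfl

/-- A quasi-finite flat finitely presented algebra below a flat finitely presented one, with a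
prime over a given prime in the image. -/
theorem exists_slice_aux (p : Ideal A) [p.IsPrime] (n : ℕ) :
    ∀ (B : Type u) [CommRing B] [Algebra A B] [Algebra.FinitePresentation A B] [Module.Flat A B],
      Nontrivial (p.Fiber B) → ringKrullDim (p.Fiber B) ≤ n →
      ∃ (C : Type u) (_ : CommRing C) (_ : Algebra A C) (_ : B →ₐ[A] C),
        Algebra.FinitePresentation A C ∧ Module.Flat A C ∧ Algebra.QuasiFinite A C ∧
          ∃ q : Ideal C, q.IsPrime ∧ q.comap (algebraMap A C) = p := by
  induction n using Nat.strong_induction_on with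
  | _ n ih =>
  intro B _ _ _ _ hnt hdim
  by_cases hmin : ∀ P ∈ minimalPrimes (p.Fiber B), P.IsMaximal
  · -- zero-dimensional fibre
    have : Ring.KrullDimLE 0 (p.Fiber B) := Ring.krullDimLE_zero_iff.2 fun I hI => by
      obtain ⟨P, hP, hPI⟩ := Ideal.exists_minimalPrimes_le (I := (⊥ : Ideal (p.Fiber B))) (J := I) bot_le
      exact (hmin P hP).eq_of_le hI.ne_top hPI ▸ hmin P hP
    have : IsNoetherianRing (p.Fiber B) := Algebra.FiniteType.isNoetherianRing p.ResidueField _
    have : IsArtinianRing (p.Fiber B) :=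
      isArtinianRing_iff_isNoetherianRing_krullDimLE_zero.2 ⟨inferInstance, inferInstance⟩
    have : Module.Finite p.ResidueField (p.Fiber B) := (Module.finite_iff_isArtinianRing _ _).2 inferInstance
    obtain ⟨Q⟩ : Nonempty (PrimeSpectrum (p.Fiber B)) := inferInstance
    let q := Q.asIdeal.comap Algebra.TensorProduct.includeRight.toRingHom
    have : q.LiesOver p := ((PrimeSpectrum.primesOverOrderIsoFiber A B p).symm Q).2.2
    have := Algebra.QuasiFiniteAt.of_quasiFiniteAt_residueField p q Q.asIdeal rfl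
    obtain ⟨S', hS', r, hrq, hbij⟩ :=
      Algebra.QuasiFiniteAt.exists_fg_and_exists_notMem_and_awayMap_bijective (R := A) q
    have : Module.Finite A S' := ⟨(Submodule.fg_top _).mpr hS'⟩
    have : Algebra.QuasiFinite A (Localization.Away r) := .trans _ S' _
    have : Algebra.QuasiFinite A (Localization.Away r.1) :=
      .of_surjective_algHom (Localization.awayMapₐ S'.val r) hbij.2
    refine ⟨Localization.Away r.1, inferInstance, inferInstance,
      IsScalarTower.toAlgHom A B _, ?_, Module.Flat.trans A B _, inferInstance, ?_⟩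
    · have := IsLocalization.Away.finitePresentation r.1 (S := Localization.Away r.1)
      exact .trans A B _
    · have hd : Disjoint (Submonoid.powers r.1 : Set B) q := by
        rw [Set.disjoint_left]
        rintro _ ⟨k, rfl⟩ hk
        exact hrq (Ideal.IsPrime.mem_of_pow_mem inferInstance k hk)
      refine ⟨q.map (algebraMap B (Localization.Away r.1)),
        IsLocalization.isPrime_of_isPrime_disjoint (Submonoid.powers r.1) _ _ inferInstance hd, ?_⟩
      rw [IsScalarTower.algebraMap_eq A B, ← Ideal.comap_comap, ← Ideal.under_def B,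
        IsLocalization.under_map_of_isPrime_disjoint (Submonoid.powers r.1) _ inferInstance hd]
      exact (q.over_def p).symm
  · push Not at hmin
    obtain ⟨P, hP, hPm⟩ := hmin
    obtain ⟨g, f, m, hm, hgm, hfm, hfP, hgQ⟩ := exists_cut p P hP hPm
    let r : PrimeSpectrum B := ⟨m.comap Algebra.TensorProduct.includeRight.toRingHom, inferInstance⟩
    have hrp : r.asIdeal.comap (algebraMap A B) = p :=
      ((PrimeSpectrum.primesOverOrderIsoFiber A B p).symm ⟨m, hm.isPrime⟩).2.2.over.symm
    have hinj := fibInjAt_cut p P hfP hgQ r hrp hgm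
    let r' : Ideal (B ⧸ Ideal.span {f}) := r.asIdeal.map (Ideal.Quotient.mk _)
    have hle : Ideal.span {f} ≤ r.asIdeal := (Ideal.span_singleton_le_iff_mem _).2 hfm
    have : r'.IsPrime := Ideal.map_isPrime_of_surjective Ideal.Quotient.mk_surjective
      (by rwa [Ideal.mk_ker])
    have hr' : r'.comap (Ideal.Quotient.mk _) = r.asIdeal := by
      rw [Ideal.comap_map_of_surjective _ Ideal.Quotient.mk_surjective, ← RingHom.ker_eq_comap_bot,
        Ideal.mk_ker, sup_eq_left.2 hle]
    have := Algebra.FinitePresentation.quotient (R := A) (Submodule.fg_span_singleton f)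
    have hgr' : Ideal.Quotient.mk (Ideal.span {f}) g ∉ r' := fun h => hgm (by
      have h' : g ∈ r'.comap (Ideal.Quotient.mk _) := h
      rwa [hr'] at h')
    obtain ⟨c, hc, hflat⟩ := exists_away_flat r' (flat_localized_cut f r hinj r' hr') hgr'
    let e := c * Ideal.Quotient.mk (Ideal.span {f}) g
    let C := Localization.Away e
    have : Algebra.FinitePresentation A C := by
      have := IsLocalization.Away.finitePresentation e (S := C)
      exact .trans A (B ⧸ Ideal.span {f}) _
    let ψ : B →ₐ[A] C :=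
      (IsScalarTower.toAlgHom A (B ⧸ Ideal.span {f}) C).comp (Ideal.Quotient.mkₐ A _)
    have hψ : ∀ I J : Ideal C, I.IsPrime → J.IsPrime →
        I.comap ψ.toRingHom ≤ J.comap ψ.toRingHom → I ≤ J := fun I J _ _ h => by
      rw [← IsLocalization.map_under (Submonoid.powers e) C I,
        ← IsLocalization.map_under (Submonoid.powers e) C J]
      refine Ideal.map_mono fun x hx => ?_
      obtain ⟨b, rfl⟩ := Ideal.Quotient.mk_surjective x
      exact h hx
    obtain ⟨φ, hφ, hφmem⟩ := exists_fiberSpec_map ψ hψ p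
    -- a prime of `C` over `p`
    have hd : Disjoint (Submonoid.powers e : Set (B ⧸ Ideal.span {f})) r' := by
      rw [Set.disjoint_left]
      rintro _ ⟨k, rfl⟩ hk
      exact hc (Ideal.IsPrime.mem_of_pow_mem inferInstance k hk)
    let qC : p.primesOver C := ⟨r'.map (algebraMap _ C),
      IsLocalization.isPrime_of_isPrime_disjoint (Submonoid.powers e) _ _ inferInstance hd, ⟨by
        rw [Ideal.under_def, IsScalarTower.algebraMap_eq A (B ⧸ Ideal.span {f}) C, ← Ideal.comap_comap,
          ← Ideal.under_def (B ⧸ Ideal.span {f}), IsLocalization.under_map_of_isPrime_disjoint (Submonoid.powers e) _ inferInstance hd,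
          ← hrp, ← hr', Ideal.comap_comap, Ideal.Quotient.mk_comp_algebraMap]⟩⟩
    have hntC : Nontrivial (p.Fiber C) :=
      PrimeSpectrum.nonempty_iff_nontrivial.1 ⟨PrimeSpectrum.primesOverOrderIsoFiber A C p qC⟩
    -- the dimension drops
    have hf0 : ψ f = 0 := by
      show algebraMap (B ⧸ Ideal.span {f}) C (Ideal.Quotient.mk _ f) = 0
      rw [Ideal.Quotient.eq_zero_iff_mem.2 (Ideal.mem_span_singleton_self f), map_zero]
    have hg1 : IsUnit (ψ g) := isUnit_of_mul_isUnit_right
      (x := algebraMap _ C c) (by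
        show IsUnit (algebraMap _ C c * algebraMap _ C (Ideal.Quotient.mk (Ideal.span {f}) g))
        rw [← map_mul]; exact IsLocalization.Away.algebraMap_isUnit e)
    have hdrop : ∀ l : LTSeries (PrimeSpectrum (p.Fiber C)),
        ((l.length + 1 : ℕ) : WithBot ℕ∞) ≤ ringKrullDim (p.Fiber B) := fun l => by
      have : IsNoetherianRing (p.Fiber B) := Algebra.FiniteType.isNoetherianRing p.ResidueField _
      let l' := l.map φ hφ
      obtain ⟨P', hP', hP'le⟩ := Ideal.exists_minimalPrimes_le
        (I := (⊥ : Ideal (p.Fiber B))) (J := l'.head.asIdeal) bot_le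
      have hgP' : Algebra.TensorProduct.includeRight g ∉ P' := fun h => by
        have h' := (hφmem l.head g).1 (hP'le h)
        exact l.head.2.ne_top (Ideal.eq_top_of_isUnit_mem _ h' (hg1.map _))
      have hP'ass : P' ∈ associatedPrimes (p.Fiber B) (p.Fiber B) :=
        Module.associatedPrimes.minimalPrimes_annihilator_subset_associatedPrimes (p.Fiber B)
          (p.Fiber B) (by
            rw [show Module.annihilator (p.Fiber B) (p.Fiber B) = ⊥ from
              Module.annihilator_eq_bot.2 inferInstance]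
            exact hP')
      have hP'P : P' = P := by_contra fun h => hgP' (hgQ P' hP'ass h)
      have hlt : (⟨P', hP'.1.1⟩ : PrimeSpectrum (p.Fiber B)) < l'.head := by
        refine lt_of_le_not_ge hP'le fun hle' => hfP (hP'P ▸ hle' ?_)
        exact (hφmem l.head f).2 (by rw [hf0, map_zero]; exact zero_mem _)
      refine le_of_eq_of_le ?_ (Order.LTSeries.length_le_krullDim (RelSeries.cons l' ⟨P', hP'.1.1⟩ hlt))
      rw [RelSeries.cons_length]
      rfl
    cases n with
    | zero =>
      exfalso
      have := (hdrop (RelSeries.singleton _ (PrimeSpectrum.primesOverOrderIsoFiber A C p qC))).trans hdim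
      simp at this
      norm_num at this
    | succ k =>
      have hdimC : ringKrullDim (p.Fiber C) ≤ k := iSup_le fun l => by
        have h := (hdrop l).trans hdim
        norm_cast at h ⊢
        omega
      obtain ⟨D, _, _, χ, hD⟩ := ih k (Nat.lt_succ_self k) C hntC hdimC
      exact ⟨D, inferInstance, inferInstance, χ.comp ψ, hD⟩

/-- Flat finitely presented algebras have quasi-finite flat slices through every prime of the
image of their spectrum. -/
theorem exists_slice [Algebra.FinitePresentation A B] [Module.Flat A B] (q : Ideal B) [q.IsPrime] :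
    ∃ (C : Type u) (_ : CommRing C) (_ : Algebra A C) (_ : B →ₐ[A] C),
      Algebra.FinitePresentation A C ∧ Module.Flat A C ∧ Algebra.QuasiFinite A C ∧
        ∃ q' : Ideal C, q'.IsPrime ∧ q'.comap (algebraMap A C) = q.comap (algebraMap A B) := by
  let p := q.comap (algebraMap A B)
  have hnt : Nontrivial (p.Fiber B) := PrimeSpectrum.nonempty_iff_nontrivial.1
    ⟨PrimeSpectrum.primesOverOrderIsoFiber A B p ⟨q, inferInstance, ⟨rfl⟩⟩⟩
  obtain ⟨n, π, hπ⟩ := Algebra.FiniteType.iff_quotient_mvPolynomial''.1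
    (inferInstance : Algebra.FiniteType p.ResidueField (p.Fiber B))
  refine exists_slice_aux p n B hnt ((ringKrullDim_le_of_surjective π.toRingHom hπ).trans ?_)
  rw [MvPolynomial.ringKrullDim_of_isNoetherianRing, ringKrullDim_eq_zero_of_field, zero_add, Nat.card_fin]

end Groth.Agent.FlatMorSlice
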