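import Groth.Prelude.Def_Mor2
import Groth.Agent.FlatMorSlice.CM
import Groth.Agent.CAlgH.KoszulChart
import Mathlib.AlgebraicGeometry.Morphisms.Flat
import Mathlib.RingTheory.IsTensorProduct
import Mathlib.LinearAlgebra.TensorProduct.RightExactness

/-!
# Base change of regular sequences with flat quotients
-/

universe u

set_option autoImplicit false
set_option backward.isDefEq.respectTransparency false

open TensorProduct Function CategoryTheory CategoryTheory.Limits AlgebraicGeometry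

namespace Groth.Agent.FlatMorSlice

/-- A weakly regular sequence all of whose partial quotients are flat over the base stays weakly regular
after any change of base. -/
theorem isWeaklyRegular_pushout {R L R' L' : Type u} [CommRing R] [CommRing L] [CommRing R'] [CommRing L']
    [Algebra R L] [Algebra R R'] [Algebra R' L'] [Algebra L L'] [Algebra R L'] [IsScalarTower R R' L']
    [IsScalarTower R L L'] [Algebra.IsPushout R R' L L'] (rs : List L)
    (hw : RingTheory.Sequence.IsWeaklyRegular L rs)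
    (hfl : ∀ i, Module.Flat R (L ⧸ Ideal.ofList (rs.take i))) :
    RingTheory.Sequence.IsWeaklyRegular L' (rs.map (algebraMap L L')) := by
  refine ⟨fun i hi => ?_⟩
  have hi' : i < rs.length := by simpa using hi
  let I : Ideal L := Ideal.ofList (rs.take i)
  let a : L := rs[i]
  have hreg := hw.regular_mod_prev i hi'
  rw [isSMulRegular_quotient_iff_mem_of_smul_mem] at hreg ⊢
  simp only [List.getElem_map, ← List.map_take, ← Ideal.map_ofList, smul_eq_mul, Ideal.mul_top] at hreg ⊢
  let m : (L ⧸ I) →ₗ[R] L ⧸ I := LinearMap.mulLeft R (Ideal.Quotient.mk I a)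
  let J : Ideal L := Ideal.ofList (rs.take (i + 1))
  have hJ : J = I ⊔ Ideal.span {a} := by
    show Ideal.ofList _ = _
    rw [List.take_succ_eq_append_getElem hi', Ideal.ofList_append, Ideal.ofList_singleton]
  have hIJ : I ≤ J := hJ ▸ le_sup_left
  let π : (L ⧸ I) →ₗ[R] L ⧸ J := (Ideal.Quotient.factorₐ R hIJ).toLinearMap
  have hπ : Surjective π := Ideal.Quotient.factor_surjective hIJ
  have hm : Injective m := by
    intro y z h
    obtain ⟨y, rfl⟩ := Ideal.Quotient.mk_surjective y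
    obtain ⟨z, rfl⟩ := Ideal.Quotient.mk_surjective z
    refine Ideal.Quotient.eq.2 (hreg _ ?_)
    rw [mul_sub]
    exact Ideal.Quotient.eq.1 (by rw [map_mul, map_mul]; exact h)
  have hex : Exact m π := by
    intro y
    obtain ⟨y, rfl⟩ := Ideal.Quotient.mk_surjective y
    show Ideal.Quotient.factor hIJ (Ideal.Quotient.mk I y) = 0 ↔ _
    rw [Ideal.Quotient.factor_mk, Ideal.Quotient.eq_zero_iff_mem, hJ]
    constructor
    · intro h
      obtain ⟨b, hb, c, hc, rfl⟩ := Submodule.mem_sup.1 h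
      obtain ⟨z, rfl⟩ := Ideal.mem_span_singleton'.1 hc
      refine ⟨Ideal.Quotient.mk I z, ?_⟩
      show Ideal.Quotient.mk I a * Ideal.Quotient.mk I z = _
      rw [map_add, map_mul, Ideal.Quotient.eq_zero_iff_mem.2 hb, zero_add, mul_comm]
    · rintro ⟨z, hz⟩
      obtain ⟨z, rfl⟩ := Ideal.Quotient.mk_surjective z
      have hd : y - a * z ∈ I := Ideal.Quotient.eq.1 (hz.symm.trans (map_mul _ _ _).symm)
      rw [show y = (y - a * z) + a * z by ring]
      exact add_mem (Ideal.mem_sup_left hd)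
        (Ideal.mem_sup_right (Ideal.mem_span_singleton'.2 ⟨z, mul_comm _ _⟩))
  have := hfl (i + 1)
  have hinj : Injective (m.lTensor R') := LinearMap.lTensor_injective_of_exact_of_flat π hπ m hm hex R'
  let e := Algebra.IsPushout.equiv R R' L L'
  let ψ : R' ⊗[R] L →ₐ[R] R' ⊗[R] (L ⧸ I) :=
    Algebra.TensorProduct.map (AlgHom.id R R') (Ideal.Quotient.mkₐ R I)
  have hker : RingHom.ker ψ = I.map Algebra.TensorProduct.includeRight := by
    rw [Algebra.TensorProduct.lTensor_ker _ (Ideal.Quotient.mkₐ_surjective R I), AlgHom.ker_coe, Ideal.Quotient.mkₐ_ker]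
  have hmul : ∀ z, ψ ((1 : R') ⊗ₜ a * z) = m.lTensor R' (ψ z) := by
    intro z
    induction z using TensorProduct.induction_on with
    | zero => simp
    | tmul r l => simp [ψ, m]
    | add u v hu hv => simp only [mul_add, map_add, hu, hv]
  intro x hx
  obtain ⟨z, rfl⟩ := e.surjective x
  have he : ∀ l : L, e (1 ⊗ₜ l) = algebraMap L L' l := fun l => by
    rw [Algebra.IsPushout.equiv_tmul, map_one, one_mul]
  have hmap : I.map (algebraMap L L') =
      (I.map (Algebra.TensorProduct.includeRight : L →ₐ[R] R' ⊗[R] L)).map e.toRingEquiv.toRingHom := by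
    rw [← Ideal.map_coe (Algebra.TensorProduct.includeRight : L →ₐ[R] R' ⊗[R] L), Ideal.map_map]
    congr 1
    exact RingHom.ext fun l => (he l).symm
  have hmem : ∀ z : R' ⊗[R] L, e z ∈ I.map (algebraMap L L') ↔ ψ z = 0 := by
    intro z
    rw [hmap, ← RingHom.mem_ker, hker]
    exact Ideal.mem_map_of_equiv e.toRingEquiv _ |>.trans
      ⟨fun ⟨w, hw, hwz⟩ => e.injective hwz ▸ hw, fun h => ⟨z, h, rfl⟩⟩
  rw [← he, ← map_mul, hmem, hmul] at hx
  rw [hmem]
  exact hinj (hx.trans (map_zero _).symm)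

variable {Z X S S' : Scheme.{u}}

/-- A closed subscheme of an affine scheme cut out by a sequence with flat partial quotients is a regular
closed immersion after any change of base. -/
theorem isRegularClosedImmersion_baseChange [IsAffine X] (i : Z ⟶ X) [IsClosedImmersion i] (q : X ⟶ S)
    {V : S.Opens} (hV : IsAffineOpen V) (e : (⊤ : X.Opens) ≤ q ⁻¹ᵁ V) (rs : List Γ(X, ⊤))
    (hker : RingHom.ker i.appTop.hom = Ideal.ofList rs)
    (hw : RingTheory.Sequence.IsWeaklyRegular Γ(X, ⊤) rs)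
    (hfl : letI := (q.appLE V ⊤ e).hom.toAlgebra
      ∀ j, Module.Flat Γ(S, V) (Γ(X, ⊤) ⧸ Ideal.ofList (rs.take j)))
    (q' : Z ⟶ S) (hq : q' = i ≫ q)
    (g : S' ⟶ S) (w₁ : q' ≫ 𝟙 S = i ≫ q) (w₂ : g ≫ 𝟙 S = 𝟙 S' ≫ g) :
    Mor2.IsRegularClosedImmersion (pullback.map q' g q g i (𝟙 S') (𝟙 S) w₁ w₂) := by
  subst hq
  let i' := pullback.map (i ≫ q) g q g i (𝟙 S') (𝟙 S) w₁ w₂
  have h1 : i' ≫ pullback.snd q g = pullback.snd (i ≫ q) g :=
    (pullback.lift_snd _ _ _).trans (Category.comp_id _)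
  have h2 : i' ≫ pullback.fst q g = pullback.fst (i ≫ q) g ≫ i := pullback.lift_fst _ _ _
  have hsq : IsPullback (pullback.fst (i ≫ q) g) i' i (pullback.fst q g) :=
    IsPullback.of_bot (h₁₁ := pullback.fst (i ≫ q) g)
      (by rw [h1]; exact IsPullback.of_hasPullback (i ≫ q) g) h2.symm (IsPullback.of_hasPullback q g)
  have hci : IsClosedImmersion i' := MorphismProperty.of_isPullback (P := @IsClosedImmersion) hsq inferInstance
  refine ⟨hci, fun z => ?_⟩
  let p := i' z
  have hpV : pullback.snd q g p ∈ g ⁻¹ᵁ V := by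
    show g (pullback.snd q g p) ∈ V
    rw [← Scheme.Hom.comp_apply, ← pullback.condition, Scheme.Hom.comp_apply]
    exact e trivial
  obtain ⟨_, ⟨W, hW, rfl⟩, hpW, hWV⟩ := S'.isBasis_affineOpens.exists_subset_of_mem_open hpV (g ⁻¹ᵁ V).2
  replace hWV : W ≤ g ⁻¹ᵁ V := hWV
  let Q : (pullback q g).Opens := pullback.fst q g ⁻¹ᵁ ⊤ ⊓ pullback.snd q g ⁻¹ᵁ W
  have hQ : IsAffineOpen Q := by
    have : IsAffine _ := hV
    have : IsAffine _ := hW
    have : IsAffine _ := isAffineOpen_top X
    exact .of_isIso (Scheme.Hom.isPullback_resLE (IsPullback.of_hasPullback q g) hWV e (UY := Q) rfl).isoPullback.hom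
  have : IsClosedImmersion (i ∣_ ⊤) :=
    IsZariskiLocalAtTarget.restrict ‹IsClosedImmersion i› ⊤
  obtain ⟨-, hk⟩ := CAlgH.KoszulChart.baseChange i (pullback.fst q g) i' (pullback.fst (i ≫ q) g) hsq
    (isAffineOpen_top X) hQ inf_le_left
  let _ : Algebra Γ(S, V) Γ(X, ⊤) := (q.appLE V ⊤ e).hom.toAlgebra
  let _ : Algebra Γ(S, V) Γ(S', W) := (g.appLE V W hWV).hom.toAlgebra
  let _ : Algebra Γ(S', W) Γ(pullback q g, Q) := ((pullback.snd q g).appLE W Q inf_le_right).hom.toAlgebra
  let _ : Algebra Γ(X, ⊤) Γ(pullback q g, Q) := ((pullback.fst q g).appLE ⊤ Q inf_le_left).hom.toAlgebra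
  let _ : Algebra Γ(S, V) Γ(pullback q g, Q) :=
    (g.appLE V W hWV ≫ (pullback.snd q g).appLE W Q inf_le_right).hom.toAlgebra
  have : IsScalarTower Γ(S, V) Γ(S', W) Γ(pullback q g, Q) := .of_algebraMap_eq' rfl
  have : IsScalarTower Γ(S, V) Γ(X, ⊤) Γ(pullback q g, Q) := .of_algebraMap_eq' (congrArg CommRingCat.Hom.hom
    (show g.appLE V W hWV ≫ (pullback.snd q g).appLE W Q inf_le_right =
      q.appLE V ⊤ e ≫ (pullback.fst q g).appLE ⊤ Q inf_le_left by
      simp only [Scheme.Hom.appLE_comp_appLE, pullback.condition]))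
  have : Algebra.IsPushout Γ(S, V) Γ(S', W) Γ(X, ⊤) Γ(pullback q g, Q) :=
    CommRingCat.isPushout_iff_isPushout.1 ((isIso_pushoutSection_iff (IsPullback.of_hasPullback q g) hWV e rfl).1
      (isIso_pushoutSection_of_isAffineOpen (IsPullback.of_hasPullback q g) hWV e rfl hV hW (isAffineOpen_top X))).flip
  have hker' : i'.ker.ideal ⟨Q, hQ⟩ = Ideal.ofList (rs.map (algebraMap Γ(X, ⊤) Γ(pullback q g, Q))) := by
    rw [Scheme.Hom.ker_apply, hk, show i.app ⊤ = i.appTop from rfl, hker, Ideal.map_ofList]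
    rfl
  refine ⟨Q, hQ, ⟨trivial, hpW⟩, _, ⟨isWeaklyRegular_pushout (R := Γ(S, V)) (R' := Γ(S', W)) rs hw hfl, fun h => ?_⟩, hker'⟩
  rw [Ideal.smul_eq_mul, Ideal.mul_top, ← hker', Scheme.Hom.ker_apply] at h
  have hone : (i'.app Q).hom 1 = 0 := RingHom.mem_ker.1 (h ▸ Submodule.mem_top)
  rw [map_one] at hone
  have hz : z ∈ i' ⁻¹ᵁ Q := ⟨trivial, hpW⟩
  have := congrArg ((pullback (i ≫ q) g).presheaf.germ (i' ⁻¹ᵁ Q) z hz).hom hone
  rw [map_one, map_zero] at this
  exact one_ne_zero this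

theorem FibReg.take {A B : Type u} [CommRing A] [CommRing B] [Algebra A B] {q : Ideal B} {rs : List B}
    (h : FibReg A q rs) (j : ℕ) : FibReg A q (rs.take j) := by
  intro i hi x hx
  rw [List.length_take, lt_min_iff] at hi
  rw [List.take_take, min_eq_left hi.1.le] at hx ⊢
  exact h i hi.2 x (by simpa only [List.getElem_take] using hx)

theorem flat_quotient_congr {R A A' : Type u} [CommRing R] [CommRing A] [CommRing A'] [Algebra R A]
    [Algebra R A'] (e : A ≃ₐ[R] A') (I : Ideal A) (J : Ideal A') (hIJ : J = I.map e.toRingEquiv.toRingHom)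
    [Module.Flat R (A ⧸ I)] : Module.Flat R (A' ⧸ J) :=
  Module.Flat.of_linearEquiv (Ideal.quotientEquivAlg I J e hIJ).symm.toLinearEquiv

end Groth.Agent.FlatMorSlice
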