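import Groth.Agent.FlatMorSlice.Slice
import Mathlib.AlgebraicGeometry.Morphisms.QuasiFinite
import Mathlib.AlgebraicGeometry.Morphisms.Flat
import Mathlib.AlgebraicGeometry.Morphisms.FinitePresentation
import Mathlib.AlgebraicGeometry.Morphisms.UnderlyingMap

/-!
# Quasi-finite refinements of fppf covers
-/

universe u

set_option autoImplicit false
set_option backward.isDefEq.respectTransparency false

open AlgebraicGeometry CategoryTheory Limits

namespace Groth.Agent.FlatMorSlice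

variable {S' S : Scheme.{u}}

/-- A flat finitely presented morphism has a quasi-finite flat slice over every point of its
image. -/
theorem exists_slice_scheme (g : S' ⟶ S) [Flat g] [LocallyOfFinitePresentation g] (x : S') :
    ∃ (T : Scheme.{u}) (r : T ⟶ S'), IsAffine T ∧ Flat (r ≫ g) ∧
      LocallyOfFinitePresentation (r ≫ g) ∧ LocallyQuasiFinite (r ≫ g) ∧
        g x ∈ Set.range ⇑(r ≫ g) := by
  obtain ⟨_, ⟨U, (hU : IsAffineOpen U), rfl⟩, hxU, -⟩ := S.isBasis_affineOpens.exists_subset_of_mem_open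
    (Set.mem_univ (g x)) isOpen_univ
  obtain ⟨_, ⟨V, (hV : IsAffineOpen V), rfl⟩, hxV, hVU⟩ := S'.isBasis_affineOpens.exists_subset_of_mem_open
    (show x ∈ g ⁻¹ᵁ U from hxU) (g ⁻¹ᵁ U).isOpen
  let e : V ≤ g ⁻¹ᵁ U := hVU
  let φ : Γ(S, U) ⟶ Γ(S', V) := g.appLE U V e
  algebraize [φ.hom]
  have : Algebra.FinitePresentation Γ(S, U) Γ(S', V) :=
    LocallyOfFinitePresentation.finitePresentation_appLE g hU hV e
  have : Module.Flat Γ(S, U) Γ(S', V) := Flat.flat_appLE g hU hV e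
  obtain ⟨C, _, _, χ, hfp, hfl, hqf, q', hq', hq'p⟩ :=
    exists_slice (A := Γ(S, U)) (hV.primeIdealOf ⟨x, hxV⟩).asIdeal
  let r : Spec (.of C) ⟶ S' := Spec.map (CommRingCat.ofHom χ.toRingHom) ≫ hV.fromSpec
  have hr : r ≫ g = Spec.map (CommRingCat.ofHom (algebraMap Γ(S, U) C)) ≫ hU.fromSpec := by
    rw [Category.assoc, ← hU.SpecMap_appLE_fromSpec g hV e, ← Category.assoc, ← Spec.map_comp]
    congr 2
    ext a
    exact χ.commutes a
  have h₁ := (HasRingHomProperty.Spec_iff (P := @Flat)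
    (φ := CommRingCat.ofHom (algebraMap Γ(S, U) C))).2 (RingHom.flat_algebraMap_iff.2 hfl)
  have h₂ := (HasRingHomProperty.Spec_iff (P := @LocallyOfFinitePresentation)
    (φ := CommRingCat.ofHom (algebraMap Γ(S, U) C))).2 (RingHom.finitePresentation_algebraMap.2 hfp)
  have h₃ := (HasRingHomProperty.Spec_iff (P := @LocallyQuasiFinite)
    (φ := CommRingCat.ofHom (algebraMap Γ(S, U) C))).2 (RingHom.quasiFinite_algebraMap.2 hqf)
  refine ⟨_, r, inferInstance, ?_, ?_, ?_, ⟨⟨q', hq'⟩, ?_⟩⟩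
  · rw [hr]; exact MorphismProperty.comp_mem @Flat _ _ h₁ inferInstance
  · rw [hr]; exact MorphismProperty.comp_mem @LocallyOfFinitePresentation _ _ h₂ inferInstance
  · rw [hr]; exact MorphismProperty.comp_mem @LocallyQuasiFinite _ _ h₃ inferInstance
  rw [hr]
  refine (Eq.trans ?_ (congrArg g (hV.fromSpec_primeIdealOf ⟨x, hxV⟩)))
  show _ = (hV.fromSpec ≫ g) (hV.primeIdealOf ⟨x, hxV⟩)
  rw [← hU.SpecMap_appLE_fromSpec g hV e]
  exact congrArg hU.fromSpec (PrimeSpectrum.ext hq'p)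

/-- An fppf cover is refined by a quasi-finite fppf cover. -/
theorem exists_locallyQuasiFinite_refinement (g : S' ⟶ S) [Flat g] [LocallyOfFinitePresentation g]
    [Surjective g] :
    ∃ (T : Scheme.{u}) (r : T ⟶ S'), Flat (r ≫ g) ∧ LocallyOfFinitePresentation (r ≫ g) ∧
      LocallyQuasiFinite (r ≫ g) ∧ Surjective (r ≫ g) := by
  choose T r hT h₁ h₂ h₃ h₄ using exists_slice_scheme g
  have hc : Sigma.desc r ≫ g = Sigma.desc fun x => r x ≫ g := Sigma.hom_ext _ _ fun x => by simp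
  refine ⟨∐ T, Sigma.desc r, ?_, ?_, ?_, ⟨fun s => ?_⟩⟩
  · rw [hc]; exact IsZariskiLocalAtSource.sigmaDesc (P := (@Flat : MorphismProperty Scheme.{u})) h₁
  · rw [hc]; exact IsZariskiLocalAtSource.sigmaDesc (P := (@LocallyOfFinitePresentation : MorphismProperty Scheme.{u})) h₂
  · rw [hc]; exact IsZariskiLocalAtSource.sigmaDesc (P := (@LocallyQuasiFinite : MorphismProperty Scheme.{u})) h₃
  · obtain ⟨x, rfl⟩ := Surjective.surj (f := g) s
    obtain ⟨t, ht⟩ := h₄ x
    exact ⟨Sigma.ι T x t, by rw [← Scheme.Hom.comp_apply, Sigma.ι_desc_assoc]; exact ht⟩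

end Groth.Agent.FlatMorSlice
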