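import Groth.Agent.SmoothLib.Quotient
import Mathlib.RingTheory.Etale.Locus
import Mathlib.RingTheory.Unramified.Field
import Mathlib.RingTheory.Spectrum.Prime.RingHom
import Mathlib.Algebra.TrivSqZeroExt.Basic

/-! A smooth algebra has an étale quotient through every prime with unramified residue field. -/

set_option autoImplicit false
set_option backward.isDefEq.respectTransparency false

universe u

open TensorProduct KaehlerDifferential

namespace Groth.Agent.FlatMorSlice.EtaleCut

/-- A derivation of `B` into a `κ(q)`-space killing `q` is zero if `κ(q)` is unramified over the base. -/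
theorem leibniz_eq_zero {A B V : Type u} [CommRing A] [CommRing B] [Algebra A B] (q : Ideal B) [q.IsPrime]
    [Algebra.FormallyUnramified A q.ResidueField] [AddCommGroup V] [Module q.ResidueField V]
    (δ : B → V) (hδa : ∀ b c, δ (b + c) = δ b + δ c)
    (hδm : ∀ b c, δ (b * c) = algebraMap B q.ResidueField b • δ c + algebraMap B q.ResidueField c • δ b)
    (hδA : ∀ a, δ (algebraMap A B a) = 0) (hδq : ∀ h ∈ q, δ h = 0) (b : B) : δ b = 0 := by
  let _ : Module (q.ResidueField)ᵐᵒᵖ V := Module.compHom V ((RingHom.id (q.ResidueField)).fromOpposite mul_comm)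
  have : IsCentralScalar (q.ResidueField) V := ⟨fun _ _ => rfl⟩
  have h00 : δ 0 = 0 := by simpa using hδA 0
  have h10 : δ 1 = 0 := by simpa using hδA 1
  let _ : Algebra A (TrivSqZeroExt (q.ResidueField) V) :=
    ((TrivSqZeroExt.inlHom (q.ResidueField) V).comp (algebraMap A (q.ResidueField))).toAlgebra
  let f : B →+* TrivSqZeroExt (q.ResidueField) V :=
  { toFun := fun b => TrivSqZeroExt.inl (algebraMap B (q.ResidueField) b) + TrivSqZeroExt.inr (δ b)
    map_one' := by simp [h10]
    map_zero' := by simp [h00]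
    map_add' := fun b c => by
      ext <;> simp [hδa]
    map_mul' := fun b c => by
      ext <;> simp [hδm] }
  have hfa : ∀ a : A, f (algebraMap A B a) = algebraMap A (TrivSqZeroExt (q.ResidueField) V) a := fun a => by
    have : δ (algebraMap A B a) = 0 := hδA a
    show TrivSqZeroExt.inl (algebraMap B (q.ResidueField) (algebraMap A B a)) + TrivSqZeroExt.inr (δ (algebraMap A B a)) =
      TrivSqZeroExt.inl (algebraMap A (q.ResidueField) a)
    rw [this, TrivSqZeroExt.inr_zero, add_zero, ← IsScalarTower.algebraMap_apply]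
  have hfq : q ≤ RingHom.ker f := fun h hh => by
    have h1 : δ h = 0 := hδq h hh
    rw [RingHom.mem_ker]
    show TrivSqZeroExt.inl (algebraMap B (q.ResidueField) h) + TrivSqZeroExt.inr (δ h) = 0
    rw [h1, Ideal.algebraMap_residueField_eq_zero.2 hh, TrivSqZeroExt.inr_zero, TrivSqZeroExt.inl_zero,
      add_zero]
  have hfu : ∀ b, b ∉ q → IsUnit (f b) := fun b hb => by
    rw [TrivSqZeroExt.isUnit_iff_isUnit_fst]
    show IsUnit (TrivSqZeroExt.fst (TrivSqZeroExt.inl (algebraMap B (q.ResidueField) b) + TrivSqZeroExt.inr (δ b)))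
    rw [TrivSqZeroExt.fst_add, TrivSqZeroExt.fst_inl, TrivSqZeroExt.fst_inr, add_zero]
    exact isUnit_iff_ne_zero.2 (mt Ideal.algebraMap_residueField_eq_zero.1 hb)
  let fA : B →ₐ[A] TrivSqZeroExt (q.ResidueField) V := { f with commutes' := hfa }
  let ψ : (q.ResidueField) →ₐ[A] TrivSqZeroExt (q.ResidueField) V := Ideal.ResidueField.liftₐ q fA hfq (fun b hb => hfu b hb)
  let g₀ : (q.ResidueField) →ₐ[A] TrivSqZeroExt (q.ResidueField) V := { TrivSqZeroExt.inlHom (q.ResidueField) V with commutes' := fun _ => rfl }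
  have hψ : ∀ b, ψ (algebraMap B (q.ResidueField) b) = f b := fun b => by
    exact Ideal.ResidueField.liftₐ_algebraMap _ _ _ _ b
  let pr : TrivSqZeroExt (q.ResidueField) V →+* (q.ResidueField) := (TrivSqZeroExt.fstHom (q.ResidueField) (q.ResidueField) V).toRingHom
  have hnil : IsNilpotent (RingHom.ker pr) := by
    refine ⟨2, ?_⟩
    rw [pow_two, Ideal.zero_eq_bot, eq_bot_iff, Ideal.mul_le]
    intro y hy z hz
    rw [Ideal.mem_bot]
    have hy' : y.fst = 0 := hy
    have hz' : z.fst = 0 := hz
    ext <;> simp [hy', hz']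
  have heq : ψ = g₀ := by
    refine Algebra.FormallyUnramified.lift_unique_of_ringHom pr hnil ψ g₀ ?_
    apply Ideal.ResidueField.ringHom_ext
    ext b
    show (ψ (algebraMap B (q.ResidueField) b)).fst = (g₀ (algebraMap B (q.ResidueField) b)).fst
    rw [hψ]
    show (TrivSqZeroExt.inl (algebraMap B (q.ResidueField) b) + TrivSqZeroExt.inr (δ b)).fst = (TrivSqZeroExt.inl (algebraMap B (q.ResidueField) b) : TrivSqZeroExt (q.ResidueField) V).fst
    simp
  have h1 : f b = g₀ (algebraMap B (q.ResidueField) b) := by rw [← hψ, heq]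
  have h2 := congrArg TrivSqZeroExt.snd h1
  have h3 : (TrivSqZeroExt.inl (algebraMap B (q.ResidueField) b) + TrivSqZeroExt.inr (δ b)).snd =
      (TrivSqZeroExt.inl (algebraMap B (q.ResidueField) b) : TrivSqZeroExt (q.ResidueField) V).snd := h2
  simpa using h3

/-- Differentials of elements of `q` span `κ(q) ⊗ Ω` as soon as `κ(q)` is unramified over the base. -/
theorem span_D_eq_top {A B : Type u} [CommRing A] [CommRing B] [Algebra A B] (q : Ideal B) [q.IsPrime]
    [Algebra.FormallyUnramified A q.ResidueField] :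
    Submodule.span q.ResidueField
      (Set.range fun h : q => (1 : q.ResidueField) ⊗ₜ[B] D A B (h : B)) = ⊤ := by
  let K := q.ResidueField
  let M := K ⊗[B] Ω[B⁄A]
  let W : Submodule K M := Submodule.span K (Set.range fun h : q => (1 : K) ⊗ₜ[B] D A B (h : B))
  let V := M ⧸ W
  let δ : B → V := fun b => W.mkQ ((1 : K) ⊗ₜ[B] D A B b)
  have hδa : ∀ b c : B, δ (b + c) = δ b + δ c := fun b c => by
    show W.mkQ _ = _
    rw [map_add, tmul_add, map_add]
  have hδm : ∀ b c : B, δ (b * c) = algebraMap B K b • δ c + algebraMap B K c • δ b := fun b c => by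
    show W.mkQ _ = _
    rw [Derivation.leibniz, tmul_add, tmul_smul, tmul_smul, map_add, algebra_compatible_smul K b, algebra_compatible_smul K c, map_smul, map_smul]
  have hδ0 : ∀ b, δ b = 0 := fun b => leibniz_eq_zero q δ hδa hδm (fun a => by
      show W.mkQ _ = _
      rw [Derivation.map_algebraMap, tmul_zero, map_zero]) (fun h hh => (Submodule.Quotient.mk_eq_zero W).2 (Submodule.subset_span ⟨⟨h, hh⟩, rfl⟩)) b
  rw [eq_top_iff]
  intro m _
  induction m using TensorProduct.induction_on with
  | zero => exact zero_mem _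
  | tmul k w =>
    have hw : w ∈ Submodule.span B (Set.range (D A B)) := by rw [span_range_derivation]; trivial
    induction hw using Submodule.span_induction generalizing k with
    | mem w hw =>
      obtain ⟨b, rfl⟩ := hw
      have h1 := Submodule.smul_mem W k ((Submodule.Quotient.mk_eq_zero W).1 (hδ0 b))
      rwa [smul_tmul', smul_eq_mul, mul_one] at h1
    | zero => rw [tmul_zero]; exact zero_mem _
    | add y z _ _ hy hz => rw [tmul_add]; exact add_mem (hy k trivial) (hz k trivial)
    | smul c y _ hy => rw [← smul_tmul]; exact hy _ trivial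
  | add y z hy hz => exact add_mem (hy trivial) (hz trivial)

/-- A smooth algebra has an étale quotient through a prime with unramified residue field. -/
theorem exists_etale_cut {A B : Type u} [CommRing A] [CommRing B] [Algebra A B] [Algebra.Smooth A B]
    (q : Ideal B) [q.IsPrime] [Algebra.FormallyUnramified A q.ResidueField] :
    ∃ (I : Ideal B), I ≤ q ∧ ∃ f : B, f ∉ q ∧
      Algebra.Etale A (Localization.Away (Ideal.Quotient.mk I f)) := by
  classical
  let K := q.ResidueField
  let v : q → K ⊗[B] Ω[B⁄A] := fun h => (1 : K) ⊗ₜ[B] D A B (h : B)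
  obtain ⟨κ, a, ha, hsp, hli⟩ := exists_linearIndependent' K v
  have := hli.finite
  let _ := Fintype.ofFinite κ
  let s : Finset B := Finset.univ.image fun i => (a i : B)
  have hs : (s : Set B) = Set.range fun i => (a i : B) := by simp [s]
  let I : Ideal B := Ideal.span s
  have hIq : I ≤ q := Ideal.span_le.2 (by rw [hs]; rintro _ ⟨i, rfl⟩; exact (a i).2)
  have hker : RingHom.ker (Ideal.Quotient.mk I) ≤ q := by rwa [Ideal.mk_ker]
  let P : Ideal (B ⧸ I) := q.map (Ideal.Quotient.mk I)
  have : P.IsPrime := Ideal.map_isPrime_of_surjective Ideal.Quotient.mk_surjective hker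
  have hP : q = P.comap (Ideal.Quotient.mk I) := by
    rw [Ideal.comap_map_of_surjective _ Ideal.Quotient.mk_surjective, ← RingHom.ker_eq_comap_bot,
      sup_eq_left.2 hker]
  have hsmq : Algebra.IsSmoothAt A q :=
    inferInstanceAs (Algebra.FormallySmooth A (Localization.AtPrime q))
  have hsm : Algebra.IsSmoothAt A P := by
    refine (SmoothLib.isSmoothAt_quotient_iff I ⟨s, rfl⟩ P q hP).2 ⟨s, Ideal.subset_span, Ideal.map_span _ _, ?_⟩
    let e : κ ≃ s := Equiv.ofBijective (fun i => ⟨(a i : B), by simp [s]⟩) ⟨fun i j h => ha (Subtype.ext (congrArg Subtype.val h :)), fun g => by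
      have : (g : B) ∈ Set.range fun i => (a i : B) := by rw [← hs]; exact g.2
      obtain ⟨i, hi⟩ := this
      exact ⟨i, Subtype.ext hi⟩⟩
    exact (linearIndependent_equiv e).1 hli
  have hun : Algebra.IsUnramifiedAt A P := by
    show (⟨P, this⟩ : PrimeSpectrum (B ⧸ I)) ∈ Algebra.unramifiedLocus A (B ⧸ I)
    rw [Algebra.unramifiedLocus_eq_compl_support, Set.mem_compl_iff]
    have : Algebra.FiniteType A B := inferInstance
    rw [Module.mem_support_iff_nontrivial_residueField_tensorProduct, not_nontrivial_iff_subsingleton]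
    let C := B ⧸ I
    have : P.LiesOver q := ⟨hP⟩
    let g : K →ₐ[B] P.ResidueField :=
      Ideal.ResidueField.mapₐ q P (Algebra.ofId B C) hP
    let m : K ⊗[B] Ω[B⁄A] →ₗ[B] P.ResidueField ⊗[C] Ω[C⁄A] :=
      (TensorProduct.mapOfCompatibleSMul C B B P.ResidueField (Ω[C⁄A])).comp
        (TensorProduct.map g.toLinearMap (KaehlerDifferential.map A A B C))
    have hm : ∀ (k : K) (b : B), m (k ⊗ₜ D A B b) = g k ⊗ₜ[C] D A C (Ideal.Quotient.mk I b) := fun k b => by
      simp [m, C]
    have hm0 : ∀ z, z ∈ Submodule.span K (Set.range v) → ∀ k : K, m (k • z) = 0 := fun z hz => by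
      rw [← hsp] at hz
      induction hz using Submodule.span_induction with
      | mem z hz =>
        obtain ⟨i, rfl⟩ := hz
        intro k
        show m (k • ((1 : K) ⊗ₜ[B] D A B (a i : B))) = 0
        rw [smul_tmul', hm, Ideal.Quotient.eq_zero_iff_mem.2 (Ideal.subset_span (by rw [hs]; exact ⟨i, rfl⟩) : (a i : B) ∈ I),
          map_zero, tmul_zero]
      | zero => intro k; rw [smul_zero, map_zero]
      | add y z _ _ hy hz => intro k; rw [smul_add, map_add, hy k, hz k, add_zero]
      | smul c y _ hy => intro k; rw [smul_smul]; exact hy _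
    have h1 : ∀ c : C, (1 : P.ResidueField) ⊗ₜ[C] D A C c = 0 := fun c => by
      obtain ⟨b, rfl⟩ := Ideal.Quotient.mk_surjective c
      have := hm0 ((1 : K) ⊗ₜ[B] D A B b) (by rw [span_D_eq_top]; trivial) 1
      rwa [one_smul, hm, map_one] at this
    refine subsingleton_of_forall_eq 0 fun z => ?_
    induction z using TensorProduct.induction_on with
    | zero => rfl
    | tmul k w =>
      have hw : w ∈ Submodule.span C (Set.range (D A C)) := by rw [span_range_derivation]; trivial
      induction hw using Submodule.span_induction generalizing k with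
      | mem w hw =>
        obtain ⟨c, rfl⟩ := hw
        rw [← mul_one k, ← smul_eq_mul, ← smul_tmul', h1, smul_zero]
      | zero => rw [tmul_zero]
      | add y z _ _ hy hz => rw [tmul_add, hy k, hz k, add_zero]
      | smul c y _ hy => rw [← smul_tmul]; exact hy _
    | add y z hy hz => rw [hy, hz, add_zero]
  have : Algebra.IsEtaleAt A P := Algebra.FormallyEtale.iff_formallyUnramified_and_formallySmooth.2 ⟨hun, hsm⟩
  have : Algebra.FinitePresentation A (B ⧸ I) := Algebra.FinitePresentation.quotient ⟨s, rfl⟩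
  obtain ⟨f', hf', het⟩ := Algebra.exists_etale_of_isEtaleAt (R := A) P
  obtain ⟨f, rfl⟩ := Ideal.Quotient.mk_surjective f'
  exact ⟨I, hIq, f, fun hf => hf' (Ideal.mem_map_of_mem _ hf), het⟩

end Groth.Agent.FlatMorSlice.EtaleCut
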